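import Groth.Agent.AlgSp.K644.Colim
import Mathlib.Algebra.Homology.ShortComplex.ModuleCat
import Mathlib.CategoryTheory.Abelian.Exact

/-!
# Exactness on affine objects for modules cartesian on affine objects
-/

set_option autoImplicit false

universe w v d u w₁ w₂

open CategoryTheory CategoryTheory.Limits AlgebraicGeometry Opposite TensorProduct

namespace K644.Exact

open Groth.Agent.Etbase.FFExact K644.Site K644.Psh K644.Alg K644.Colim

variable {D : Type d} [Category.{v} D] {J : GrothendieckTopology D} {T : D ⥤ Scheme.{u}}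

section sections

variable {R : Sheaf J RingCat.{w}} [Str T R.obj]

/-- Sections of a sheaf of modules, with the structure of a module over the functions. -/
abbrev sec (M : SheafOfModules.{w} R) (U : D) : Type w := M.val.presheaf.obj (op U)

variable (T) in
/-- The map on sections of a morphism. -/
noncomputable abbrev smap {M N : SheafOfModules.{w} R} (φ : M ⟶ N) (U : D) :
    sec M U →ₗ[Γ(T.obj U, ⊤)] sec N U := lin T φ.val U

/-- Restriction of sections. -/
noncomputable abbrev res (M : SheafOfModules.{w} R) {V U : D} (g : V ⟶ U) :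
    sec M U →+ sec M V := (M.val.presheaf.map g.op).hom

theorem res_comp (M : SheafOfModules.{w} R) {W V U : D} (g : V ⟶ U) (h : W ⟶ V) (x : sec M U) :
    res M (h ≫ g) x = res M h (res M g x) := map_comp_apply g h x

theorem res_id (M : SheafOfModules.{w} R) {U : D} (x : sec M U) :
    res M (𝟙 U) x = x := by
  change M.val.presheaf.map (𝟙 U).op x = x
  rw [op_id, M.val.presheaf.map_id]
  rfl

theorem smap_res {M N : SheafOfModules.{w} R} (φ : M ⟶ N) {V U : D} (g : V ⟶ U) (x : sec M U) :
    smap T φ V (res M g x) = res N g (smap T φ U x) := lin_map φ.val g x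

theorem smap_comp {M N P : SheafOfModules.{w} R} (φ : M ⟶ N) (ψ : N ⟶ P) (U : D) (x : sec M U) :
    smap T (φ ≫ ψ) U x = smap T ψ U (smap T φ U x) := rfl

theorem smap_id {M : SheafOfModules.{w} R} (U : D) (x : sec M U) :
    smap T (𝟙 M) U x = x := rfl

theorem res_smul (M : SheafOfModules.{w} R) {V U : D} (g : V ⟶ U) (a : Γ(T.obj U, ⊤))
    (x : sec M U) : res M g (a • x) = (T.map g).appTop.hom a • res M g x :=
  map_smul' M.val g a x

theorem smap_zero {M N : SheafOfModules.{w} R} (U : D) (x : sec M U) :
    smap T (0 : M ⟶ N) U x = 0 := rfl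

theorem ext_of_mem {M : SheafOfModules.{w} R} {U : D} {S : Sieve U} (hS : S ∈ J U) (x y : sec M U)
    (h : ∀ (V : D) (f : V ⟶ U), S f → res M f x = res M f y) : x = y :=
  sep_of_isSheaf M.isSheaf hS x y h

end sections

section affine

variable [QCSite J T] {R : Sheaf J RingCat.{w}}

theorem ext_affine {M : SheafOfModules.{w} R} {U : D} (x y : sec M U)
    (h : ∀ (V : D) (f : V ⟶ U), IsAffine (T.obj V) → res M f x = res M f y) : x = y := by
  refine ext_of_mem (S := Sieve.generate (fun V f => IsAffine (T.obj V)))
    (QCSite.exists_aff (T := T) U _ fun V g hV => ?_) x y ?_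
  · exact Sieve.le_generate _ _ g hV
  · rintro V f ⟨W, a, b, hb, rfl⟩
    rw [res_comp, res_comp, h W b hb]

variable [Str T R.obj]

/-- Morphisms are determined by their values on affine objects. -/
theorem hom_ext_affine {M N : SheafOfModules.{w} R} (φ ψ : M ⟶ N)
    (h : ∀ (U : D), IsAffine (T.obj U) → ∀ x : sec M U, smap T φ U x = smap T ψ U x) : φ = ψ := by
  ext1
  refine (PresheafOfModules.toPresheaf R.obj).map_injective ?_
  ext U x
  induction U with
  | op U =>
    refine ext_affine (T := T) (M := N) (U := U) _ _ fun V f hV => ?_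
    change res N f (smap T φ U x) = res N f (smap T ψ U x)
    rw [← smap_res, ← smap_res, h V hV]

/-- Injectivity on affine objects implies injectivity on all objects. -/
theorem injective_of_affine {M N : SheafOfModules.{w} R} (φ : M ⟶ N)
    (h : ∀ (U : D), IsAffine (T.obj U) → Function.Injective (smap T φ U)) (U : D) :
    Function.Injective (smap T φ U) := by
  rw [injective_iff_map_eq_zero]
  intro x hx
  refine ext_affine (T := T) x 0 fun V f hV => ?_
  apply h V hV
  rw [smap_res, hx, map_zero, map_zero, map_zero]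

theorem mono_of_affine {M N : SheafOfModules.{w} R} (φ : M ⟶ N)
    (h : ∀ (U : D), IsAffine (T.obj U) → Function.Injective (smap T φ U)) : Mono φ := by
  constructor
  intro P a b hab
  refine hom_ext_affine (T := T) a b fun U hU x => h U hU ?_
  rw [← smap_comp, ← smap_comp, hab]

theorem locallySurjective_of_affine {M N : SheafOfModules.{w} R} (φ : M ⟶ N)
    (h : ∀ (U : D), IsAffine (T.obj U) → Function.Surjective (smap T φ U)) :
    PresheafOfModules.IsLocallySurjective J φ.val where
  imageSieve_mem {U} s := by
    refine QCSite.exists_aff (T := T) U _ fun V g hV => ?_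
    obtain ⟨t, ht⟩ := h V hV (res N g s)
    exact ⟨t, ht⟩

theorem epi_of_affine {M N : SheafOfModules.{w} R} (φ : M ⟶ N)
    (h : ∀ (U : D), IsAffine (T.obj U) → Function.Surjective (smap T φ U)) : Epi φ := by
  constructor
  intro P a b hab
  refine hom_ext_affine (T := T) a b fun U hU x => ?_
  obtain ⟨y, rfl⟩ := h U hU x
  rw [← smap_comp, ← smap_comp, hab]

/-- A morphism bijective on affine objects is an isomorphism. -/
theorem isIso_of_affine {M N : SheafOfModules.{w} R} (φ : M ⟶ N)
    (h : ∀ (U : D), IsAffine (T.obj U) → Function.Bijective (smap T φ U)) : IsIso φ := by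
  rw [← isIso_iff_of_reflects_iso φ (SheafOfModules.toSheaf.{w} R)]
  have h1 := locallySurjective_of_affine φ (fun U hU => (h U hU).2)
  have h2 : PresheafOfModules.IsLocallyInjective J φ.val := by
    refine Presheaf.isLocallyInjective_of_injective _ _ fun U => ?_
    exact injective_of_affine φ (fun U hU => (h U hU).1) U.unop
  exact (Sheaf.isLocallyBijective_iff_isIso ((SheafOfModules.toSheaf.{w} R).map φ)).1 ⟨h2, h1⟩

end affine

section main

variable [HasPullbacks D] [PreservesLimitsOfShape WalkingCospan T] [QCSite J T]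
  {R : Sheaf J RingCat.{u + 1}} [Str T R.obj]
  [HasWeakSheafify J AddCommGrpCat.{u + 1}]
  [J.WEqualsLocallyBijective AddCommGrpCat.{u + 1}]

/-- Epimorphisms between modules cartesian on affine objects are surjective on affine objects. -/
theorem surjective_of_epi {M N : SheafOfModules.{u + 1} R} (hM : IsQC T M.val) (hN : IsQC T N.val)
    (φ : M ⟶ N) [Epi φ] (U : D) (hU : IsAffine (T.obj U)) :
    Function.Surjective (smap T φ U) := by
  have h := PushoutCocone.isColimitMkIdId φ
  obtain ⟨h'⟩ := isColimit_eval (T := T) h (by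
    rintro (_ | _ | _)
    · exact hM
    · exact hN
    · exact hN) U hU
  have h'' := isColimitMapCoconePushoutCoconeEquiv (SheafOfModules.evaluation R (op U)) rfl h'
  have : Epi ((SheafOfModules.evaluation R (op U)).map φ) := by
    constructor
    intro Z a b hab
    exact (PushoutCocone.IsColimit.inl_desc h'' a b hab).symm.trans
      (PushoutCocone.IsColimit.inr_desc h'' a b hab)
  exact (ModuleCat.epi_iff_surjective _).1 this

/-- Cokernels of modules cartesian on affine objects. -/
theorem isQC_cokernel {M N C : SheafOfModules.{u + 1} R} (hM : IsQC T M.val) (hN : IsQC T N.val)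
    (φ : M ⟶ N) (π : N ⟶ C) (w : φ ≫ π = 0) (h : IsColimit (CokernelCofork.ofπ π w)) :
    IsQC T C.val :=
  isQC_of_isColimit h (by
    rintro (_ | _)
    · exact hM
    · exact hN)

/-- Cokernels of modules cartesian on affine objects are computed on affine objects. -/
theorem exact_cokernel {M N C : SheafOfModules.{u + 1} R} (hM : IsQC T M.val) (hN : IsQC T N.val)
    (φ : M ⟶ N) (π : N ⟶ C) (w : φ ≫ π = 0) (h : IsColimit (CokernelCofork.ofπ π w)) (U : D)
    (hU : IsAffine (T.obj U)) :
    Function.Exact (smap T φ U) (smap T π U) ∧ Function.Surjective (smap T π U) := by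
  have : Epi π := epi_of_isColimit_cofork h
  refine ⟨?_, surjective_of_epi hN (isQC_cokernel hM hN φ π w h) π U hU⟩
  obtain ⟨h'⟩ := isColimit_eval (T := T) h (by
    rintro (_ | _)
    · exact hM
    · exact hN) U hU
  have hw : ∀ x, smap T π U (smap T φ U x) = 0 := fun x => by
    rw [← smap_comp, w, smap_zero]
  intro x
  constructor
  · intro hx
    let q : sec N U →ₗ[Γ(T.obj U, ⊤)] sec N U ⧸ LinearMap.range (smap T φ U) :=
      (LinearMap.range (smap T φ U)).mkQ
    have hq : ∀ y, q (smap T φ U y) = 0 := fun y =>
      (Submodule.Quotient.mk_eq_zero _).2 ⟨y, rfl⟩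
    obtain ⟨l, hl⟩ := desc_exists (T := T)
      (c := (SheafOfModules.forget R).mapCocone (CokernelCofork.ofπ π w)) h'
      (Q := sec N U ⧸ LinearMap.range (smap T φ U))
      (fun k => match k with
        | .zero => 0
        | .one => q) (by
      rintro _ _ (_ | _ | k) x
      · exact hq x
      · exact map_zero q
      · rfl)
    have h1 : l (smap T π U x) = q x := hl .one x
    have h2 : q x = 0 := h1.symm.trans ((congrArg l hx).trans (map_zero l))
    exact (Submodule.Quotient.mk_eq_zero _).1 h2
  · rintro ⟨y, rfl⟩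
    exact hw y

end main

section kernels

variable {R : Sheaf J RingCat.{u + 1}}

/-- Kernels are computed on sections. -/
theorem exact_kernel [Str T R.obj] {K M N : SheafOfModules.{u + 1} R} (i : K ⟶ M) (φ : M ⟶ N)
    (w : i ≫ φ = 0) (h : IsLimit (KernelFork.ofι i w)) (U : D) :
    Function.Injective (smap T i U) ∧ Function.Exact (smap T i U) (smap T φ U) := by
  let ev := SheafOfModules.evaluation R (op U)
  have w' : i ≫ φ = i ≫ 0 := by rw [w, comp_zero]
  have h' := isLimitForkMapOfIsLimit ev w' h
  have hm : Mono (ev.map i) := by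
    have : Mono i := mono_of_isLimit_fork h
    infer_instance
  refine ⟨(ModuleCat.mono_iff_injective _).1 hm, fun x => ⟨fun hx => ?_, ?_⟩⟩
  · let f : ModuleCat.of (R.obj.obj (op U)) (R.obj.obj (op U)) ⟶ ev.obj M :=
      ModuleCat.ofHom (LinearMap.toSpanSingleton (R.obj.obj (op U)) (M.val.obj (op U)) x)
    have hf : f ≫ ev.map φ = f ≫ ev.map 0 := by
      ext
      change φ.val.app (op U) ((1 : R.obj.obj (op U)) • (show M.val.obj (op U) from x)) = 0
      rw [one_smul]
      exact hx
    obtain ⟨l, hl⟩ := Fork.IsLimit.lift' h' f hf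
    refine ⟨l (1 : R.obj.obj (op U)), ?_⟩
    have := ConcreteCategory.congr_hom hl (1 : R.obj.obj (op U))
    refine this.trans ?_
    change (1 : R.obj.obj (op U)) • (show M.val.obj (op U) from x) = x
    rw [one_smul]
  · rintro ⟨y, rfl⟩
    rw [← smap_comp, w, smap_zero]

end kernels

variable (T) in
/-- All the morphisms of the site are flat. -/
class FlatMaps : Prop where
  flat : ∀ {V U : D} (g : V ⟶ U), Flat (T.map g)

theorem FlatMaps.appTop [FlatMaps T] {V U : D} (g : V ⟶ U) (hV : IsAffine (T.obj V))
    (hU : IsAffine (T.obj U)) : (T.map g).appTop.hom.Flat :=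
  have := FlatMaps.flat (T := T) g
  HasRingHomProperty.appTop (P := @Flat) (T.map g) this

section flat

variable [FlatMaps T] {R : Sheaf J RingCat.{u + 1}} [Str T R.obj]

/-- Kernels of modules cartesian on affine objects. -/
theorem isQC_kernel {K M N : SheafOfModules.{u + 1} R} (hM : IsQC T M.val) (hN : IsQC T N.val)
    (i : K ⟶ M) (φ : M ⟶ N)
    (w : i ≫ φ = 0) (h : IsLimit (KernelFork.ofι i w)) : IsQC T K.val := by
  intro V U g hV hU
  have h1 := exact_kernel (T := T) i φ w h U
  have h2 := exact_kernel (T := T) i φ w h V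
  exact IsBC.of_leftExact (FlatMaps.appTop g hV hU) h1.1 h1.2 h2.1 h2.2
    (fun k => (smap_res i g k).symm) (fun m => (smap_res φ g m).symm) (hM g hV hU) (hN g hV hU)

end flat

end K644.Exact
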