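import Groth.Agent.AlgSp.K644.Cartan
import Groth.Agent.AlgSp.K644.Exact
import Mathlib.Algebra.Category.ModuleCat.Sheaf.Abelian
import Mathlib.Algebra.Homology.ShortComplex.ExactFunctor

/-!
# Short exact sequences of modules on a `QCSite`
-/

set_option autoImplicit false

universe w v d u

open CategoryTheory CategoryTheory.Limits AlgebraicGeometry Opposite Simplicial

namespace K644.Ses

open Groth.Agent.Etbase.CechCartan Groth.Agent.Etbase.FFExact K644.Site K644.Psh K644.Cech
  Groth.Agent.Etbase.SieveCartan K644.Exact K644.Alg K644.Cartan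

section gen

variable {C : Type d} [Category.{v} C] {J : GrothendieckTopology C} (R : Sheaf J RingCat.{w})
  [HasSheafify J AddCommGrpCat.{w}] [J.WEqualsLocallyBijective AddCommGrpCat.{w}]

/-- `toSheaf` preserves finite colimits. -/
instance toSheaf_preservesFiniteColimits :
    PreservesFiniteColimits (SheafOfModules.toSheaf.{w} R) where
  preservesFiniteColimits K _ _ := by
    have : PreservesColimitsOfShape K (presheafToSheaf J AddCommGrpCat.{w}) :=
      (CategoryTheory.sheafificationAdjunction J
        AddCommGrpCat.{w}).leftAdjoint_preservesColimits.preservesColimitsOfShape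
    have : PreservesColimitsOfShape K
        (PresheafOfModules.sheafification.{w} (𝟙 R.obj) ⋙ SheafOfModules.toSheaf.{w} R) :=
      inferInstanceAs (PreservesColimitsOfShape K
        (PresheafOfModules.toPresheaf _ ⋙ presheafToSheaf J AddCommGrpCat.{w}))
    let adj := PresheafOfModules.sheafificationAdjunction.{w} (𝟙 R.obj)
    refine ⟨fun {F} => ?_⟩
    have : PreservesColimitsOfShape K (PresheafOfModules.sheafification.{w} (𝟙 R.obj)) :=
      adj.leftAdjoint_preservesColimits.preservesColimitsOfShape
    let G := SheafOfModules.forget R ⋙ PresheafOfModules.restrictScalars (𝟙 R.obj)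
    let e : (F ⋙ G) ⋙ PresheafOfModules.sheafification.{w} (𝟙 R.obj) ≅ F :=
      Functor.associator _ _ _ ≪≫ Functor.isoWhiskerLeft F (asIso adj.counit) ≪≫ F.rightUnitor
    have : PreservesColimit ((F ⋙ G) ⋙ PresheafOfModules.sheafification.{w} (𝟙 R.obj))
        (SheafOfModules.toSheaf.{w} R) := by
      refine preservesColimit_of_preserves_colimit_cocone
        (isColimitOfPreserves _ (colimit.isColimit (F ⋙ G))) ?_
      exact isColimitOfPreserves (PresheafOfModules.sheafification.{w} (𝟙 R.obj) ⋙
        SheafOfModules.toSheaf.{w} R) (colimit.isColimit (F ⋙ G))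
    exact preservesColimit_of_iso_diagram _ e

variable {R}

theorem shortExact_toSheaf {S : ShortComplex (SheafOfModules.{w} R)} (hS : S.ShortExact) :
    (S.map (SheafOfModules.toSheaf.{w} R)).ShortExact :=
  hS.map_of_exact _

end gen

section main

variable {D : Type d} [Category.{v} D] {J : GrothendieckTopology D} {T : D ⥤ Scheme.{u}}
  [HasPullbacks D] [PreservesLimitsOfShape WalkingCospan T] [QCSite J T] [DecSite J T]
  {R : Sheaf J RingCat.{max v w}} [Str T R.obj]
  [HasSheafify J AddCommGrpCat.{max v w}] [J.WEqualsLocallyBijective AddCommGrpCat.{max v w}]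

/-- Sections over affine objects are exact on extensions by modules cartesian on affine
objects. -/
theorem surjective_of_shortExact {S : ShortComplex (SheafOfModules.{max v w} R)}
    (hS : S.ShortExact) (h1 : IsQC T S.X₁.val) (U : D) (hU : IsAffine (T.obj U)) :
    Function.Surjective (smap T S.g U) :=
  surjective_of_affAcyc.{w} (T := T) _ _ _ (shortExact_toSheaf hS) (affAcyc_of_isQC.{w} h1) U hU

end main

section main1

variable {D : Type d} [Category.{v} D] {J : GrothendieckTopology D} {T : D ⥤ Scheme.{u}}
  {R : Sheaf J RingCat.{u + 1}} [Str T R.obj]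
  [HasSheafify J AddCommGrpCat.{u + 1}] [J.WEqualsLocallyBijective AddCommGrpCat.{u + 1}]

/-- Left exactness of sections. -/
theorem leftExact_sections {S : ShortComplex (SheafOfModules.{u + 1} R)} (hS : S.ShortExact)
    (U : D) : Function.Injective (smap T S.f U) ∧ Function.Exact (smap T S.f U) (smap T S.g U) :=
  exact_kernel S.f S.g S.zero hS.fIsKernel U

end main1

section main2

variable {D : Type d} [Category.{u} D] {J : GrothendieckTopology D} {T : D ⥤ Scheme.{u}}
  [HasPullbacks D] [PreservesLimitsOfShape WalkingCospan T] [QCSite J T] [DecSite J T]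
  {R : Sheaf J RingCat.{u + 1}} [Str T R.obj]
  [HasSheafify J AddCommGrpCat.{u + 1}] [J.WEqualsLocallyBijective AddCommGrpCat.{u + 1}]

omit [DecSite J T] in
theorem isQC_X₃ {S : ShortComplex (SheafOfModules.{u + 1} R)} (hS : S.ShortExact)
    (h1 : IsQC T S.X₁.val) (h2 : IsQC T S.X₂.val) : IsQC T S.X₃.val :=
  isQC_cokernel h1 h2 S.f S.g S.zero hS.gIsCokernel

variable [FlatMaps T]

omit [DecSite J T] [HasPullbacks D] [PreservesLimitsOfShape WalkingCospan T] [QCSite J T] in
theorem isQC_X₁ {S : ShortComplex (SheafOfModules.{u + 1} R)} (hS : S.ShortExact)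
    (h2 : IsQC T S.X₂.val) (h3 : IsQC T S.X₃.val) : IsQC T S.X₁.val :=
  isQC_kernel h2 h3 S.f S.g S.zero hS.fIsKernel

/-- Extensions of modules cartesian on affine objects. -/
theorem isQC_X₂ {S : ShortComplex (SheafOfModules.{u + 1} R)} (hS : S.ShortExact)
    (h1 : IsQC T S.X₁.val) (h3 : IsQC T S.X₃.val) : IsQC T S.X₂.val := by
  intro V U g hV hU
  have e1 := leftExact_sections (T := T) hS U
  have e2 := leftExact_sections (T := T) hS V
  exact IsBC.of_middle (FlatMaps.appTop g hV hU) (fun a m => res_smul S.X₂ g a m) e1.2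
    (surjective_of_shortExact.{u + 1} hS h1 U hU) e2.1 e2.2
    (fun k => (smap_res S.f g k).symm) (fun m => (smap_res S.g g m).symm) (h1 g hV hU)
    (h3 g hV hU)

end main2

end K644.Ses
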