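import Groth.Agent.AlgSp.K644.Exact
import Mathlib.RingTheory.TensorProduct.IsBaseChangePi

/-!
# Locality of the property of being cartesian on affine objects
-/

set_option autoImplicit false

universe w v d u w₁ w₂

open CategoryTheory CategoryTheory.Limits AlgebraicGeometry Opposite TensorProduct

namespace K644.Local

open Groth.Agent.Etbase.FFExact K644.Site K644.Psh K644.Alg K644.Colim K644.Exact

theorem isBaseChange_pi {A B : Type*} [CommRing A] [CommRing B] [Algebra A B] {ι : Type*}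
    [Finite ι] {M M' : ι → Type*} [∀ i, AddCommGroup (M i)] [∀ i, AddCommGroup (M' i)]
    [∀ i, Module A (M i)] [∀ i, Module B (M' i)] [∀ i, Module A (M' i)]
    [∀ i, IsScalarTower A B (M' i)] {ψ : ∀ i, M i →ₗ[A] M' i} (h : ∀ i, IsBaseChange B (ψ i))
    (f : (∀ i, M i) →ₗ[A] (∀ i, M' i)) (hf : ∀ m i, f m i = ψ i (m i)) : IsBaseChange B f := by
  have : f = .pi fun i => ψ i ∘ₗ .proj i := by
    refine LinearMap.ext fun m => funext fun i => ?_
    exact hf m i
  rw [this]
  exact IsBaseChange.pi _ h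

/-- Finite products of base changes. -/
theorem IsBC.pi {A B : Type*} [CommRing A] [CommRing B] {φ : A →+* B} {ι : Type*} [Finite ι]
    {M M' : ι → Type*} [∀ i, AddCommGroup (M i)] [∀ i, AddCommGroup (M' i)] [∀ i, Module A (M i)]
    [∀ i, Module B (M' i)] {ψ : ∀ i, M i →+ M' i} (h : ∀ i, IsBC φ (ψ i)) :
    IsBC φ (AddMonoidHom.pi fun i => (ψ i).comp (Pi.evalAddMonoidHom _ i)) := by
  choose h1 h2 using h
  refine ⟨fun a m => funext fun i => h1 i a (m i), ?_⟩
  let _ := φ.toAlgebra
  let _ : ∀ i, Module A (M' i) := fun i => Module.compHom (M' i) φ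
  have : ∀ i, IsScalarTower A B (M' i) := fun i => ⟨fun a b m => by
    change (φ a * b) • m = φ a • b • m
    rw [mul_smul]⟩
  exact isBaseChange_pi h2 _ (fun _ _ => rfl)

variable {D : Type d} [Category.{v} D] {J : GrothendieckTopology D} {T : D ⥤ Scheme.{u}}

section glue

variable {R : Sheaf J RingCat.{w}}

theorem exists_glue (M : SheafOfModules.{w} R) {U : D} {ι : Type*} (Y : ι → D) (s : ∀ i, Y i ⟶ U)
    (hcov : Sieve.ofArrows Y s ∈ J U) (x : ∀ i, sec M (Y i))
    (h : ∀ (i j : ι) (Z : D) (a : Z ⟶ Y i) (b : Z ⟶ Y j), a ≫ s i = b ≫ s j →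
      res M a (x i) = res M b (x j)) :
    ∃ y : sec M U, ∀ i, res M (s i) y = x i := by
  have hI : Presieve.IsSheaf J (M.val.presheaf ⋙ CategoryTheory.forget AddCommGrpCat) :=
    (isSheaf_iff_isSheaf_of_type _ _).1 (Presheaf.isSheaf_comp_of_isSheaf J M.val.presheaf
      (CategoryTheory.forget _) M.isSheaf)
  have h1 := (Presieve.isSheafFor_iff_generate _).2 (hI _ hcov)
  rw [Presieve.isSheafFor_arrows_iff] at h1
  obtain ⟨t, ht, -⟩ := h1 x (fun i j Z a b hab => h i j Z a b hab)
  exact ⟨t, ht⟩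

theorem ext_of_cover (M : SheafOfModules.{w} R) {U : D} {ι : Type*} (Y : ι → D) (s : ∀ i, Y i ⟶ U)
    (hcov : Sieve.ofArrows Y s ∈ J U) (x y : sec M U)
    (h : ∀ i, res M (s i) x = res M (s i) y) : x = y := by
  refine ext_of_mem hcov x y ?_
  rintro V f ⟨_, e, _, ⟨i⟩, rfl⟩
  rw [res_comp, res_comp, h i]

end glue

section cart

variable {R : Sheaf J RingCat.{w}} [Str T R.obj]

variable (T) in
/-- `M` is cartesian on the affine objects over `V`. -/
def CartOver (M : SheafOfModules.{w} R) (V : D) : Prop :=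
  ∀ ⦃W' W : D⦄ (h : W' ⟶ W) (_ : W ⟶ V), IsAffine (T.obj W') → IsAffine (T.obj W) →
    IsBC (T.map h).appTop.hom (res M h)

theorem CartOver.of_hom {M : SheafOfModules.{w} R} {V' V : D} (h : CartOver T M V) (f : V' ⟶ V) :
    CartOver T M V' := fun _ _ g p h1 h2 => h g (p ≫ f) h1 h2

variable [HasPullbacks D] [PreservesLimitsOfShape WalkingCospan T]

/-- The key descent lemma. -/
theorem bc_of_cover (M : SheafOfModules.{w} R) {U W : D} (hU : IsAffine (T.obj U))
    (hW : IsAffine (T.obj W)) (g : W ⟶ U) (hflat : (T.map g).appTop.hom.Flat) {ι : Type*}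
    [Finite ι] (Y : ι → D) (s : ∀ i, Y i ⟶ U) (hY : ∀ i, IsAffine (T.obj (Y i)))
    (hcov : Sieve.ofArrows Y s ∈ J U) (hc : ∀ i, CartOver T M (Y i)) :
    IsBC (T.map g).appTop.hom (res M g) := by
  -- the pulled back covering
  let P : ι → D := fun i => pullback g (s i)
  let p : ∀ i, P i ⟶ W := fun i => pullback.fst g (s i)
  let q : ∀ i, P i ⟶ Y i := fun i => pullback.snd g (s i)
  have sqP : ∀ i, IsPullback (p i) (q i) g (s i) := fun i => IsPullback.of_hasPullback _ _
  have hcov' : Sieve.ofArrows P p ∈ J W := by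
    refine J.superset_covering ?_ (J.pullback_stable g hcov)
    rintro Z h ⟨_, e, _, ⟨i⟩, he⟩
    exact ⟨_, (sqP i).lift h e he.symm, _, ⟨i⟩, (sqP i).lift_fst _ _ _⟩
  have hP : ∀ i, IsAffine (T.obj (P i)) := fun i => isAffine_of_isPullback (sqP i) hU hW (hY i)
  -- the overlaps
  let Y2 : ι × ι → D := fun k => pullback (s k.1) (s k.2)
  let a1 : ∀ k, Y2 k ⟶ Y k.1 := fun k => pullback.fst (s k.1) (s k.2)
  let a2 : ∀ k, Y2 k ⟶ Y k.2 := fun k => pullback.snd (s k.1) (s k.2)
  have hY2 : ∀ k, IsAffine (T.obj (Y2 k)) := fun k =>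
    isAffine_of_isPullback (IsPullback.of_hasPullback _ _) hU (hY k.1) (hY k.2)
  let s2 : ∀ k, Y2 k ⟶ U := fun k => a1 k ≫ s k.1
  have ha : ∀ k, a1 k ≫ s k.1 = a2 k ≫ s k.2 := fun k => pullback.condition
  let Q2 : ι × ι → D := fun k => pullback g (s2 k)
  let p2 : ∀ k, Q2 k ⟶ W := fun k => pullback.fst g (s2 k)
  let q2 : ∀ k, Q2 k ⟶ Y2 k := fun k => pullback.snd g (s2 k)
  have sqQ : ∀ k, IsPullback (p2 k) (q2 k) g (s2 k) := fun k => IsPullback.of_hasPullback _ _
  have hQ2 : ∀ k, IsAffine (T.obj (Q2 k)) := fun k => isAffine_of_isPullback (sqQ k) hU hW (hY2 k)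
  let b1 : ∀ k, Q2 k ⟶ P k.1 := fun k => (sqP k.1).lift (p2 k) (q2 k ≫ a1 k) (by
    rw [(sqQ k).w, Category.assoc])
  let b2 : ∀ k, Q2 k ⟶ P k.2 := fun k => (sqP k.2).lift (p2 k) (q2 k ≫ a2 k) (by
    rw [(sqQ k).w, Category.assoc, ← ha])
  have b1p : ∀ k, b1 k ≫ p k.1 = p2 k := fun k => (sqP k.1).lift_fst _ _ _
  have b2p : ∀ k, b2 k ≫ p k.2 = p2 k := fun k => (sqP k.2).lift_fst _ _ _
  have b1q : ∀ k, b1 k ≫ q k.1 = q2 k ≫ a1 k := fun k => (sqP k.1).lift_snd _ _ _
  have b2q : ∀ k, b2 k ≫ q k.2 = q2 k ≫ a2 k := fun k => (sqP k.2).lift_snd _ _ _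
  -- module structures
  let mY : ∀ i, Module Γ(T.obj U, ⊤) (sec M (Y i)) := fun i =>
    Module.compHom _ (T.map (s i)).appTop.hom
  let mY2 : ∀ k, Module Γ(T.obj U, ⊤) (sec M (Y2 k)) := fun k =>
    Module.compHom _ (T.map (s2 k)).appTop.hom
  let mP : ∀ i, Module Γ(T.obj W, ⊤) (sec M (P i)) := fun i =>
    Module.compHom _ (T.map (p i)).appTop.hom
  let mQ2 : ∀ k, Module Γ(T.obj W, ⊤) (sec M (Q2 k)) := fun k =>
    Module.compHom _ (T.map (p2 k)).appTop.hom
  have comp_app : ∀ {A B C : D} (x : A ⟶ B) (y : B ⟶ C) (r : Γ(T.obj C, ⊤)),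
      (T.map (x ≫ y)).appTop.hom r = (T.map x).appTop.hom ((T.map y).appTop.hom r) := by
    intro A B C x y r
    rw [T.map_comp, Scheme.Hom.comp_appTop]
    rfl
  -- the sequence over `U`
  let i1 : sec M U →ₗ[Γ(T.obj U, ⊤)] ∀ i, sec M (Y i) :=
    { toFun := fun x i => res M (s i) x
      map_add' := fun x y => funext fun i => map_add _ _ _
      map_smul' := fun r x => funext fun i => res_smul M (s i) r x }
  let f1 : (∀ i, sec M (Y i)) →ₗ[Γ(T.obj U, ⊤)] ∀ k, sec M (Y2 k) :=
    { toFun := fun x k => res M (a1 k) (x k.1) - res M (a2 k) (x k.2)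
      map_add' := fun x y => funext fun k => by
        simp only [Pi.add_apply, map_add]
        abel
      map_smul' := fun r x => funext fun k => by
        change res M (a1 k) ((T.map (s k.1)).appTop.hom r • x k.1) -
          res M (a2 k) ((T.map (s k.2)).appTop.hom r • x k.2) =
          (T.map (s2 k)).appTop.hom r • (res M (a1 k) (x k.1) - res M (a2 k) (x k.2))
        rw [res_smul, res_smul, smul_sub, ← comp_app, ← comp_app, ← ha k] }
  let i2 : sec M W →ₗ[Γ(T.obj W, ⊤)] ∀ i, sec M (P i) :=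
    { toFun := fun x i => res M (p i) x
      map_add' := fun x y => funext fun i => map_add _ _ _
      map_smul' := fun r x => funext fun i => res_smul M (p i) r x }
  let f2 : (∀ i, sec M (P i)) →ₗ[Γ(T.obj W, ⊤)] ∀ k, sec M (Q2 k) :=
    { toFun := fun x k => res M (b1 k) (x k.1) - res M (b2 k) (x k.2)
      map_add' := fun x y => funext fun k => by
        simp only [Pi.add_apply, map_add]
        abel
      map_smul' := fun r x => funext fun k => by
        change res M (b1 k) ((T.map (p k.1)).appTop.hom r • x k.1) -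
          res M (b2 k) ((T.map (p k.2)).appTop.hom r • x k.2) =
          (T.map (p2 k)).appTop.hom r • (res M (b1 k) (x k.1) - res M (b2 k) (x k.2))
        rw [res_smul, res_smul, smul_sub, ← comp_app, ← comp_app, b1p, b2p] }
  have hi1 : Function.Injective i1 := fun x y hxy =>
    ext_of_cover M Y s hcov x y fun i => congrFun hxy i
  have hi2 : Function.Injective i2 := fun x y hxy =>
    ext_of_cover M P p hcov' x y fun i => congrFun hxy i
  have hex1 : Function.Exact i1 f1 := by
    intro x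
    constructor
    · intro hx
      obtain ⟨y, hy⟩ := exists_glue M Y s hcov x (by
        intro i j Z a b hab
        have hz := congrFun hx (i, j)
        have hz' : res M (a1 (i, j)) (x i) = res M (a2 (i, j)) (x j) := sub_eq_zero.1 hz
        let l : Z ⟶ Y2 (i, j) := pullback.lift a b hab
        have e1 : a = l ≫ a1 (i, j) := (pullback.lift_fst a b hab).symm
        have e2 : b = l ≫ a2 (i, j) := (pullback.lift_snd a b hab).symm
        rw [e1, e2, res_comp, res_comp, hz'])
      exact ⟨y, funext hy⟩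
    · rintro ⟨y, rfl⟩
      funext k
      change res M (a1 k) (res M (s k.1) y) - res M (a2 k) (res M (s k.2) y) = 0
      rw [← res_comp, ← res_comp, ← ha, sub_self]
  have hex2 : Function.Exact i2 f2 := by
    intro x
    constructor
    · intro hx
      obtain ⟨y, hy⟩ := exists_glue M P p hcov' x (by
        intro i j Z a b hab
        have hz := congrFun hx (i, j)
        have hz' : res M (b1 (i, j)) (x i) = res M (b2 (i, j)) (x j) := sub_eq_zero.1 hz
        let l1 : Z ⟶ Y2 (i, j) := pullback.lift (a ≫ q i) (b ≫ q j) (by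
          rw [Category.assoc, Category.assoc, ← (sqP i).w, ← (sqP j).w, reassoc_of% hab])
        have l1a : l1 ≫ a1 (i, j) = a ≫ q i := pullback.lift_fst _ _ _
        have l1b : l1 ≫ a2 (i, j) = b ≫ q j := pullback.lift_snd _ _ _
        let l : Z ⟶ Q2 (i, j) := (sqQ (i, j)).lift (a ≫ p i) l1 (by
          change _ = l1 ≫ a1 (i, j) ≫ s i
          rw [Category.assoc, (sqP i).w, reassoc_of% l1a])
        have lp : l ≫ p2 (i, j) = a ≫ p i := (sqQ (i, j)).lift_fst _ _ _
        have lq : l ≫ q2 (i, j) = l1 := (sqQ (i, j)).lift_snd _ _ _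
        have e1 : a = l ≫ b1 (i, j) := by
          apply (sqP i).hom_ext
          · rw [Category.assoc]
            exact (lp.symm).trans (congrArg (fun z => l ≫ z) (b1p (i, j)).symm)
          · rw [Category.assoc]
            refine Eq.trans ?_ (congrArg (fun z => l ≫ z) (b1q (i, j)).symm)
            rw [← Category.assoc, lq, l1a]
        have e2 : b = l ≫ b2 (i, j) := by
          apply (sqP j).hom_ext
          · rw [Category.assoc, ← hab]
            exact (lp.symm).trans (congrArg (fun z => l ≫ z) (b2p (i, j)).symm)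
          · rw [Category.assoc]
            refine Eq.trans ?_ (congrArg (fun z => l ≫ z) (b2q (i, j)).symm)
            rw [← Category.assoc, lq, l1b]
        rw [e1, e2, res_comp, res_comp, hz'])
      exact ⟨y, funext hy⟩
    · rintro ⟨y, rfl⟩
      funext k
      change res M (b1 k) (res M (p k.1) y) - res M (b2 k) (res M (p k.2) y) = 0
      rw [← res_comp, ← res_comp, b1p, b2p, sub_self]
  refine IsBC.of_leftExact hflat (i := i1) (f := f1) (i' := i2) (f' := f2)
    (ψM := AddMonoidHom.pi fun i => (res M (q i)).comp (Pi.evalAddMonoidHom _ i))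
    (ψN := AddMonoidHom.pi fun k => (res M (q2 k)).comp (Pi.evalAddMonoidHom _ k))
    hi1 hex1 hi2 hex2 ?_ ?_ ?_ ?_
  · intro x
    funext i
    change res M (q i) (res M (s i) x) = res M (p i) (res M g x)
    rw [← res_comp, ← res_comp, (sqP i).w]
  · intro x
    funext k
    change res M (q2 k) (res M (a1 k) (x k.1) - res M (a2 k) (x k.2)) =
      res M (b1 k) (res M (q k.1) (x k.1)) - res M (b2 k) (res M (q k.2) (x k.2))
    rw [map_sub, ← res_comp, ← res_comp, ← res_comp, ← res_comp, b1q, b2q]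
  · exact IsBC.pi fun i => IsBC.of_isPullback (sqP i) hU hW (hY i) (fun _ _ => rfl)
      (fun _ _ => rfl) _ (hc i (q i) (𝟙 _) (hP i) (hY i))
  · exact IsBC.pi fun k => IsBC.of_isPullback (sqQ k) hU hW (hY2 k) (fun _ _ => rfl)
      (fun _ _ => rfl) _ (hc k.1 (q2 k) (a1 k) (hQ2 k) (hY2 k))

/-- Being cartesian over `U` is local for finite coverings by affine objects. -/
theorem cartOver_of_cover [FlatMaps T] {M : SheafOfModules.{w} R} {U : D}
    (hU : IsAffine (T.obj U)) {ι : Type*}
    [Finite ι] (Y : ι → D) (s : ∀ i, Y i ⟶ U) (hY : ∀ i, IsAffine (T.obj (Y i)))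
    (hcov : Sieve.ofArrows Y s ∈ J U) (hc : ∀ i, CartOver T M (Y i)) : CartOver T M U := by
  intro W' W h p hW' hW
  have sqP : ∀ i, IsPullback (pullback.fst p (s i)) (pullback.snd p (s i)) p (s i) := fun i =>
    IsPullback.of_hasPullback _ _
  refine bc_of_cover M hW hW' h (FlatMaps.appTop h hW' hW) (fun i => pullback p (s i))
    (fun i => pullback.fst p (s i))
    (fun i => isAffine_of_isPullback (sqP i) hU hW (hY i)) ?_
    (fun i => (hc i).of_hom (pullback.snd p (s i)))
  refine J.superset_covering ?_ (J.pullback_stable p hcov)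
  rintro Z h ⟨_, e, _, ⟨i⟩, he⟩
  exact ⟨_, (sqP i).lift h e he.symm, _, ⟨i⟩, (sqP i).lift_fst _ _ _⟩

/-- Being cartesian on affine objects is local. -/
theorem isQC_of_local [FlatMaps T] [QCSite J T] (M : SheafOfModules.{w} R)
    (h : ∀ (U : D), IsAffine (T.obj U) → ∀ (S : Sieve U),
      (∀ (V : D) (f : V ⟶ U), CartOver T M V → S f) → S ∈ J U) : IsQC T M.val := by
  intro U' U g hU' hU
  have : CartOver T M U := by
    let S : Sieve U :=
      { arrows := fun V _ => CartOver T M V
        downward_closed := fun {_ _ _} hf g => hf.of_hom g }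
    obtain ⟨V, f, ι, Y, s, h1, h2, h3⟩ := QCSite.exists_cover (J := J) (T := T) U hU S
      (h U hU S fun V f hV => hV)
    have := h2.fin
    have hV : CartOver T M V := cartOver_of_cover h1.src Y s h2.aff h2.mem h3
    refine cartOver_of_cover (ι := Unit) hU (fun _ => V) (fun _ => f) (fun _ => h1.src) ?_
      (fun _ => hV)
    refine J.superset_covering ?_ h1.mem
    rintro Z a ⟨b, rfl⟩
    exact ⟨_, b, _, ⟨()⟩, rfl⟩
  exact this g (𝟙 U) hU' hU

end cart

end K644.Local
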