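import Groth.Agent.AlgSp.K644.Free
import Mathlib.Algebra.Module.FinitePresentation

/-!
# Presentations of modules cartesian on affine objects
-/

set_option autoImplicit false

universe w v d u w₁ w₂

open CategoryTheory CategoryTheory.Limits AlgebraicGeometry Opposite TensorProduct

namespace K644.Pres

open Groth.Agent.Etbase.FFExact K644.Site K644.Psh K644.Alg K644.Colim K644.Exact K644.Free

/-- Generators of a module generate its base changes. -/
theorem IsBC.span_eq_top {A B : Type*} [CommRing A] [CommRing B] {φ : A →+* B}
    {M M' : Type*} [AddCommGroup M] [AddCommGroup M'] [Module A M]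
    [Module B M'] {ψ : M →+ M'} (h : IsBC φ ψ) {I : Type*} (x : I → M)
    (hx : Submodule.span A (Set.range x) = ⊤) :
    Submodule.span B (Set.range fun i => ψ (x i)) = ⊤ := by
  obtain ⟨h1, h2⟩ := h
  let _ := φ.toAlgebra
  let _ : Module A M' := Module.compHom M' φ
  have : IsScalarTower A B M' := ⟨fun a b m => by
    change (φ a * b) • m = φ a • b • m
    rw [mul_smul]⟩
  rw [eq_top_iff]
  rintro y -
  have key : ∀ m : M, ψ m ∈ Submodule.span B (Set.range fun i => ψ (x i)) := by
    intro m
    have hm : m ∈ Submodule.span A (Set.range x) := by rw [hx]; trivial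
    induction hm using Submodule.span_induction with
    | mem m hm =>
      obtain ⟨i, rfl⟩ := hm
      exact Submodule.subset_span ⟨i, rfl⟩
    | zero => rw [map_zero]; exact Submodule.zero_mem _
    | add a b _ _ ha hb => rw [map_add]; exact Submodule.add_mem _ ha hb
    | smul a m _ hm => rw [h1]; exact Submodule.smul_mem _ _ hm
  induction y using h2.inductionOn with
  | zero => exact Submodule.zero_mem _
  | tmul m => exact key m
  | smul c y ih => exact Submodule.smul_mem _ _ ih
  | add a b ha hb => exact Submodule.add_mem _ ha hb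

variable {D : Type d} [Category.{v} D] {J : GrothendieckTopology D} {T : D ⥤ Scheme.{u}}

section
variable {R : Sheaf J RingCat.{w}} {t : D}

/-- Sections over the terminal object are global sections. -/
noncomputable def secOf (ht : IsTerminal t) {M : SheafOfModules.{w} R} (x : sec M t) : M.sections :=
  PresheafOfModules.sectionsMk (M := M.val) (fun X => M.val.map (ht.from X.unop).op x) (by
    intro X Y f
    rw [← PresheafOfModules.map_comp_apply]
    exact PresheafOfModules.congr_map_apply _ (Quiver.Hom.unop_inj (ht.hom_ext _ _)) x)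

theorem secAt_secOf (ht : IsTerminal t) {M : SheafOfModules.{w} R} (x : sec M t) (U : D) :
    secAt (secOf ht x) U = res M (ht.from U) x := rfl

theorem secAt_secOf_self (ht : IsTerminal t) {M : SheafOfModules.{w} R} (x : sec M t) :
    secAt (secOf ht x) t = x := by
  rw [secAt_secOf, show ht.from t = 𝟙 t from ht.hom_ext _ _, res_id]

end

variable {R : Sheaf J RingCat.{u + 1}}
  [HasSheafify J AddCommGrpCat.{u + 1}]
  [J.WEqualsLocallyBijective AddCommGrpCat.{u + 1}]
  [HasPullbacks D] [PreservesLimitsOfShape WalkingCospan T] [QCSite J T]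
  [Str T R.obj]

/-- A module with a presentation is cartesian on affine objects. -/
theorem isQC_of_presentation {M : SheafOfModules.{u + 1} R} (P : M.Presentation) :
    IsQC T M.val :=
  isQC_cokernel (isQC_free T _) (isQC_free T _) _ _ _ P.isColimit

theorem finite_free (I : Type (u + 1)) [Finite I] (U : D) (hU : IsAffine (T.obj U)) :
    Module.FinitePresentation Γ(T.obj U, ⊤) (sec (SheafOfModules.free (R := R) I) U) :=
  Module.FinitePresentation.of_equiv (LinearEquiv.ofBijective _ (bijective_free T R I U hU))

/-- The sections over affine objects of a module of finite presentation. -/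
theorem finitePresentation_sec {M : SheafOfModules.{u + 1} R} (P : M.Presentation) [P.IsFinite]
    (U : D) (hU : IsAffine (T.obj U)) :
    Module.FinitePresentation Γ(T.obj U, ⊤) (sec M U) := by
  have h := exact_cokernel (T := T) (isQC_free T _) (isQC_free T _) _ _ _ P.isColimit U hU
  have h1 := finite_free (T := T) (R := R) P.generators.I U hU
  have h2 := finite_free (T := T) (R := R) P.relations.I U hU
  refine Module.finitePresentation_of_surjective _ h.2 ?_
  rw [h.1.linearMap_ker_eq]
  exact Submodule.FG.of_finite

theorem finite_sec {M : SheafOfModules.{u + 1} R} (hM : IsQC T M.val) (σ : M.GeneratingSections)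
    [σ.IsFiniteType] (U : D) (hU : IsAffine (T.obj U)) :
    Module.Finite Γ(T.obj U, ⊤) (sec M U) := by
  refine ⟨?_⟩
  rw [← span_eq_top hM σ U hU]
  exact Submodule.fg_span (Set.finite_range _)

section terminal

variable {t : D} (ht : IsTerminal t) (hta : IsAffine (T.obj t))

include hta in
theorem epi_secOf {M : SheafOfModules.{u + 1} R} (hM : IsQC T M.val) {I : Type (u + 1)}
    (x : I → sec M t) (hx : Submodule.span Γ(T.obj t, ⊤) (Set.range x) = ⊤) :
    Epi (M.freeHomEquiv.symm (fun i => secOf ht (x i))) := by
  refine epi_of_span (T := T) _ fun U hU => ?_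
  have := IsBC.span_eq_top (hM (ht.from U) hU hta) x hx
  exact this

/-- Generating sections from generators of the module of sections over the affine terminal
object. -/
noncomputable def genOf {M : SheafOfModules.{u + 1} R} (hM : IsQC T M.val) {I : Type (u + 1)}
    (x : I → sec M t) (hx : Submodule.span Γ(T.obj t, ⊤) (Set.range x) = ⊤) :
    M.GeneratingSections where
  I := I
  s i := secOf ht (x i)
  epi := epi_secOf ht hta hM x hx

include ht hta in
theorem exists_generating {M : SheafOfModules.{u + 1} R} (hM : IsQC T M.val)
    [Module.Finite Γ(T.obj t, ⊤) (sec M t)] : ∃ σ : M.GeneratingSections, σ.IsFiniteType := by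
  obtain ⟨n, x, hx⟩ := Module.Finite.exists_fin (R := Γ(T.obj t, ⊤)) (M := sec M t)
  refine ⟨genOf ht hta hM (I := ULift (Fin n)) (fun i => x i.down) ?_, ⟨?_⟩⟩
  · rw [← hx]
    congr 1
    ext y
    exact ⟨fun ⟨i, hi⟩ => ⟨i.down, hi⟩, fun ⟨i, hi⟩ => ⟨⟨i⟩, hi⟩⟩
  · change Finite (ULift (Fin n))
    infer_instance

variable [FlatMaps T]

theorem isQC_kernel_π {M : SheafOfModules.{u + 1} R} (hM : IsQC T M.val)
    (σ : M.GeneratingSections) : IsQC T (kernel σ.π).val :=
  isQC_kernel (isQC_free T _) hM (kernel.ι σ.π) σ.π (kernel.condition _) (kernelIsKernel σ.π)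

include ht hta in
/-- Modules cartesian on affine objects have presentations when the site has an affine terminal
object. -/
theorem nonempty_presentation {M : SheafOfModules.{u + 1} R} (hM : IsQC T M.val) :
    Nonempty M.Presentation := by
  let σ : M.GeneratingSections := genOf ht hta hM (I := sec M t) id (by
    rw [Set.range_id, Submodule.span_univ])
  have hK := isQC_kernel_π hM σ
  exact ⟨⟨σ, genOf ht hta hK (I := sec (kernel σ.π) t) id (by
    rw [Set.range_id, Submodule.span_univ])⟩⟩

include ht hta in
theorem exists_finite_presentation {M : SheafOfModules.{u + 1} R} (hM : IsQC T M.val)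
    [Module.FinitePresentation Γ(T.obj t, ⊤) (sec M t)] : ∃ P : M.Presentation, P.IsFinite := by
  obtain ⟨σ, hσ⟩ := exists_generating ht hta hM
  have hK := isQC_kernel_π hM σ
  have hk := exact_kernel (T := T) (kernel.ι σ.π) σ.π (kernel.condition _) (kernelIsKernel σ.π) t
  have hf := finite_free (T := T) (R := R) σ.I t hta
  have hfg := Module.FinitePresentation.fg_ker (smap T σ.π t)
    (surjective_of_epi (isQC_free T _) hM σ.π t hta)
  rw [hk.2.linearMap_ker_eq] at hfg
  have : Module.Finite Γ(T.obj t, ⊤) (LinearMap.range (smap T (kernel.ι σ.π) t)) :=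
    Module.Finite.iff_fg.2 hfg
  have : Module.Finite Γ(T.obj t, ⊤) (sec (kernel σ.π) t) :=
    Module.Finite.equiv (LinearEquiv.ofInjective (smap T (kernel.ι σ.π) t) hk.1).symm
  obtain ⟨ρ, hρ⟩ := exists_generating ht hta hK
  exact ⟨⟨σ, ρ⟩, ⟨hσ, hρ⟩⟩

end terminal

end K644.Pres
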