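import Groth.Agent.AlgSp.K644.Slice
import Groth.Agent.AlgSp.K644.Pres
import Groth.Agent.AlgSp.K644.Local

/-!
# Quasi-coherent modules are the modules cartesian on affine objects
-/

set_option autoImplicit false

universe w v d u w₁ w₂

open CategoryTheory CategoryTheory.Limits AlgebraicGeometry Opposite TensorProduct

namespace K644.QCoh

open Groth.Agent.Etbase.FFExact K644.Site K644.Psh K644.Alg K644.Colim K644.Exact K644.Free
  K644.Slice K644.Pres K644.Local

variable {D : Type d} [Category.{v} D] {J : GrothendieckTopology D} {T : D ⥤ Scheme.{u}}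
  {R : Sheaf J RingCat.{u + 1}} [Str T R.obj]

/-- Restriction of the base change property to a slice. -/
theorem isQC_over {M : SheafOfModules.{u + 1} R} (hM : IsQC T M.val) (E : D) :
    IsQC (oT T E) (M.over E).val := fun _ _ g hV hU => hM g.left hV hU

theorem cartOver_of_over {M : SheafOfModules.{u + 1} R} {E : D}
    (hM : IsQC (oT T E) (M.over E).val) : CartOver T M E := by
  intro W' W h p hW' hW
  exact hM (V := Over.mk (h ≫ p)) (U := Over.mk p) (Over.homMk h) hW' hW

theorem coversTop_affine [QCSite J T] {ι : Type*} (E : ι → D)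
    (hE : ∀ U : D, IsAffine (T.obj U) → ∃ i, Nonempty (U ⟶ E i)) : J.CoversTop E := by
  intro U
  refine QCSite.exists_aff (T := T) U _ fun V g hV => ?_
  obtain ⟨i, ⟨p⟩⟩ := hE V hV
  exact (Sieve.mem_ofObjects_iff ..).mpr ⟨i, ⟨p⟩⟩

variable [∀ X, HasSheafify (J.over X) AddCommGrpCat.{u + 1}]
  [∀ X, (J.over X).WEqualsLocallyBijective AddCommGrpCat.{u + 1}]
  [HasPullbacks D] [PreservesLimitsOfShape WalkingCospan T] [QCSite J T]
  [FlatMaps T]

/-- Quasi-coherent modules are cartesian on affine objects. -/
theorem isQC_of_isQuasicoherent (M : SheafOfModules.{u + 1} R) [h : M.IsQuasicoherent] :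
    IsQC T M.val := by
  obtain ⟨⟨q⟩⟩ := h
  have hq : ∀ i, CartOver T M (q.X i) := fun i =>
    cartOver_of_over (isQC_of_presentation (q.presentation i))
  refine isQC_of_local M fun U hU S hS => ?_
  refine J.superset_covering ?_ (q.coversTop U)
  rintro V f hf
  obtain ⟨i, ⟨p⟩⟩ := (Sieve.mem_ofObjects_iff ..).mp hf
  exact hS V f ((hq i).of_hom p)

/-- Modules cartesian on affine objects are quasi-coherent. -/
theorem isQuasicoherent_of_isQC {M : SheafOfModules.{u + 1} R} (hM : IsQC T M.val) :
    M.IsQuasicoherent := by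
  have : ∀ E : {E : D // IsAffine (T.obj E)}, Nonempty (M.over E.1).Presentation := fun E =>
    nonempty_presentation (T := oT T E.1) (t := Over.mk (𝟙 E.1)) Over.mkIdTerminal E.2
      (isQC_over hM E.1)
  let X : {E : D // IsAffine (T.obj E)} → D := fun E => E.1
  have hX : J.CoversTop X := coversTop_affine (T := T) X fun U hU => ⟨⟨U, hU⟩, ⟨𝟙 _⟩⟩
  exact (SheafOfModules.QuasicoherentData.mk (M := M) _ X hX
    (fun E => (this E).some)).isQuasicoherent

variable (T) in
/-- Quasi-coherent modules are the modules cartesian on affine objects. -/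
theorem isQuasicoherent_iff (M : SheafOfModules.{u + 1} R) :
    M.IsQuasicoherent ↔ IsQC T M.val :=
  ⟨fun _ => isQC_of_isQuasicoherent M, fun h => isQuasicoherent_of_isQC h⟩

end K644.QCoh
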