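import Groth.Agent.AlgSp.K644.EtSite
import Groth.Agent.AlgSp.K644.QCoh
import Groth.Prelude.Def_AlgSpModX

/-!
# Quasi-coherent modules on the small étale site of a space: the base change property

`open scoped K644.Chart` makes sections `M.val.presheaf.obj (op E)` modules over
`Γ(E.obj.left.left, ⊤)`.
-/

set_option autoImplicit false

universe u

open CategoryTheory CategoryTheory.Limits AlgebraicGeometry Opposite

namespace K644.Chart

open AlgSp K644.Site K644.Psh K644.Exact K644.EtSite K644.QCoh Groth.Agent.Etbase.FFExact

variable {S : Scheme.{u}} {X : Sp S}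

/-- Sections over `E` as a module over the functions on the scheme of `E`. -/
@[reducible] noncomputable def modSec (M : ModEt X) (E : EtOver X) :
    Module Γ(E.obj.left.left, ⊤) (M.val.presheaf.obj (op E)) :=
  Module.compHom (M.val.obj (op E)) (upΓ E)

scoped[K644.Chart] attribute [instance] K644.Chart.modSec

theorem smul_eq (M : ModEt X) (E : EtOver X) (a : Γ(E.obj.left.left, ⊤))
    (s : M.val.presheaf.obj (op E)) :
    a • s = (show M.val.presheaf.obj (op E) from (upΓ E a) • (show M.val.obj (op E) from s)) := rfl

/-- The two module structures agree. -/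
theorem modSec_eq (M : ModEt X) (E : EtOver X) :
    modSec M E = modΓ (T := EtOver.toScheme X) M.val E := rfl

/-- The base change property, for all morphisms between affine objects. -/
def IsCart (M : ModEt X) : Prop :=
  ∀ ⦃E E1 : EtOver X⦄ (g : E1 ⟶ E), IsAffine E.obj.left.left → IsAffine E1.obj.left.left →
    IsBC g.hom.left.left.appTop.hom (M.val.presheaf.map g.op).hom

theorem isCart_iff_isQC (M : ModEt X) : IsCart M ↔ IsQC (EtOver.toScheme X) M.val :=
  ⟨fun h _ _ g h1 h2 => h g h2 h1, fun h _ _ g h1 h2 => h g h2 h1⟩

/-- Quasi-coherent modules are the modules with the base change property on affine objects. -/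
theorem isQuasicoherent_iff_isCart (M : ModEt X) : M.IsQuasicoherent ↔ IsCart M :=
  (isQuasicoherent_iff (EtOver.toScheme X) M).trans (isCart_iff_isQC M).symm

theorem isBC_of_isQuasicoherent (M : ModEt X) [M.IsQuasicoherent] {E E1 : EtOver X} (g : E1 ⟶ E)
    (hE : IsAffine E.obj.left.left) (hE1 : IsAffine E1.obj.left.left) :
    IsBC g.hom.left.left.appTop.hom (M.val.presheaf.map g.op).hom :=
  (isQuasicoherent_iff_isCart M).1 inferInstance g hE hE1

theorem isQC (M : ModEt X) [M.IsQuasicoherent] : IsQC (EtOver.toScheme X) M.val :=
  isQC_of_isQuasicoherent M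

end K644.Chart
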