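import Groth.Agent.AlgSp.K644.Ses
import Groth.Agent.AlgSp.K644.Chart

/-!
# Cohomology on affine objects; the small étale site has disjoint decompositions
-/

set_option autoImplicit false

universe w' w v d u

open CategoryTheory CategoryTheory.Limits AlgebraicGeometry Opposite Simplicial

namespace K644.CohAff

open Groth.Agent.Etbase.CechCartan Groth.Agent.Etbase.FFExact K644.Site K644.Psh K644.Cech
  Groth.Agent.Etbase.SieveCartan K644.Exact K644.Alg K644.Cartan K644.Ses

section gen

variable {D : Type d} [Category.{v} D] {J : GrothendieckTopology D} {T : D ⥤ Scheme.{u}}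
  [HasPullbacks D] [PreservesLimitsOfShape WalkingCospan T] [QCSite J T] [DecSite J T]
  [HasSheafify J AddCommGrpCat.{max v w}] [HasExt.{w'} (Sheaf J AddCommGrpCat.{max v w})]
  [EnoughInjectives (Sheaf J AddCommGrpCat.{max v w})]
  [J.WEqualsLocallyBijective AddCommGrpCat.{max v w}]

/-- Vanishing of cohomology on a site with an affine terminal object. -/
theorem subsingleton_H {t : D} (ht : IsTerminal t) (hta : IsAffine (T.obj t))
    (F : Sheaf J AddCommGrpCat.{max v w}) (hF : AffAcyc.{w} T F) (n : ℕ) :
    Subsingleton (Sheaf.H.{w'} F (n + 1)) := by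
  refine H_subsingleton_of_class ht (fun F => AffAcyc.{w} T F) ?_ n F hF
  intro F hF
  let P : InjectivePresentation F := Classical.arbitrary _
  have hS : (ShortComplex.mk P.f (cokernel.π P.f) (cokernel.condition P.f)).ShortExact :=
    { exact := ShortComplex.exact_cokernel P.f }
  have := P.injective
  exact ⟨P.J, cokernel P.f, P.f, cokernel.π P.f, cokernel.condition P.f, hS, P.injective,
    surjective_of_affAcyc.{w} (T := T) P.f (cokernel.π P.f) (cokernel.condition P.f) hS hF t hta,
    affAcyc_step.{w} P.f (cokernel.π P.f) (cokernel.condition P.f) hS hF⟩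

end gen

section et

open AlgSp K644.EtSite

variable {S : Scheme.{u}} {X : Sp S}

instance faithful_toScheme : (EtOver.toScheme X).Faithful where
  map_injective h := K644.EtSite.hom_ext' _ _ h

instance decSite : DecSite (etTop X) (EtOver.toScheme X) where
  mono hs i := by
    have := mono_map_of_decomp hs i
    exact (EtOver.toScheme X).mono_of_mono_map this
  empty Z hZ := by
    rw [mem_etTop_iff]
    intro z
    exact (hZ.false z).elim

/-- Higher cohomology of quasi-coherent modules on an affine scheme. -/
theorem subsingleton_HModEt {t : EtOver X} (ht : IsTerminal t) (hta : IsAffine t.obj.left.left)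
    (M : ModEt X) [M.IsQuasicoherent] (n : ℕ) : Subsingleton (HModEt X M (n + 1)) :=
  subsingleton_H.{u + 1, u + 1} (T := EtOver.toScheme X) ht hta _
    (affAcyc_of_isQC.{u + 1} (K644.Chart.isQC M)) n

end et

end K644.CohAff
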