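import Groth.Agent.Etbase.FFExact
import Mathlib.LinearAlgebra.TensorProduct.Pi
import Mathlib.RingTheory.Flat.Basic

/-!
# Algebra of `IsBC`

`IsBC φ ψ` (from `Etbase.FFExact`): `ψ : M →+ M'` is `φ`-semilinear and exhibits `M'` as `B ⊗_A M`.
Universal property in semilinear form, transport along linear equivalences, composition,
restriction of kernels and cokernels.
-/

set_option autoImplicit false

universe u w

open TensorProduct

namespace K644.Alg

open Groth.Agent.Etbase.FFExact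

variable {A B : Type*} [CommRing A] [CommRing B] {φ : A →+* B}

/-- The semilinear universal property. -/
theorem IsBC.existsUnique_lift {M M' : Type*} [AddCommGroup M] [AddCommGroup M'] [Module A M]
    [Module B M'] {ψ : M →+ M'} (h : IsBC φ ψ) {Q : Type*} [AddCommGroup Q] [Module B Q]
    (g : M →+ Q) (hg : ∀ (a : A) (m : M), g (a • m) = φ a • g m) :
    ∃! g' : M' →ₗ[B] Q, ∀ m, g' (ψ m) = g m := by
  obtain ⟨h1, h2⟩ := h
  let _ := φ.toAlgebra
  let _ : Module A M' := Module.compHom M' φ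
  let _ : Module A Q := Module.compHom Q φ
  have : IsScalarTower A B M' := ⟨fun a b m => by
    change (φ a * b) • m = φ a • b • m
    rw [mul_smul]⟩
  have : IsScalarTower A B Q := ⟨fun a b m => by
    change (φ a * b) • m = φ a • b • m
    rw [mul_smul]⟩
  let gl : M →ₗ[A] Q := { toFun := g, map_add' := map_add g, map_smul' := hg }
  refine ⟨h2.lift gl, fun m => h2.lift_eq gl m, fun g' hg' => ?_⟩
  refine h2.algHom_ext _ _ fun m => ?_
  exact (hg' m).trans (h2.lift_eq gl m).symm

theorem IsBC.hom_ext {M M' : Type*} [AddCommGroup M] [AddCommGroup M'] [Module A M]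
    [Module B M'] {ψ : M →+ M'} (h : IsBC φ ψ) {Q : Type*} [AddCommGroup Q] [Module B Q]
    (g g' : M' →ₗ[B] Q) (hg : ∀ m, g (ψ m) = g' (ψ m)) : g = g' := by
  obtain ⟨g₀, -, h0⟩ := IsBC.existsUnique_lift h ((g : M' →+ Q).comp ψ) (by
    intro a m
    change g (ψ (a • m)) = φ a • g (ψ m)
    rw [h.choose a m, map_smul])
  rw [h0 g (fun _ => rfl), h0 g' (fun m => (hg m).symm)]

/-- The converse of the semilinear universal property. -/
theorem IsBC.of_lift {A B : Type u} [CommRing A] [CommRing B] {φ : A →+* B}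
    {M M' : Type (max u w)} [AddCommGroup M] [AddCommGroup M'] [Module A M]
    [Module B M'] {ψ : M →+ M'} (hψ : ∀ (a : A) (m : M), ψ (a • m) = φ a • ψ m)
    (h : ∀ (Q : Type (max u w)) [AddCommGroup Q] [Module B Q] (g : M →+ Q),
      (∀ (a : A) (m : M), g (a • m) = φ a • g m) → ∃! g' : M' →ₗ[B] Q, ∀ m, g' (ψ m) = g m) :
    IsBC φ ψ := by
  refine ⟨hψ, ?_⟩
  let _ := φ.toAlgebra
  let _ : Module A M' := Module.compHom M' φ
  have : IsScalarTower A B M' := ⟨fun a b m => by
    change (φ a * b) • m = φ a • b • m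
    rw [mul_smul]⟩
  refine IsBaseChange.of_lift_unique _ ?_
  intro Q i1 i2 i3 i4 g
  let _ : AddCommGroup Q := Module.addCommMonoidToAddCommGroup B
  obtain ⟨g', hg', hu⟩ := h Q ((g : M →ₗ[A] Q) : M →+ Q) (by
    intro a m
    change g (a • m) = φ a • g m
    rw [map_smul, ← one_smul B (g m), ← smul_assoc, smul_smul, mul_one, Algebra.smul_def, mul_one]
    rfl)
  refine ⟨g', ?_, ?_⟩
  · ext m
    exact hg' m
  · intro g'' h''
    exact hu g'' fun m => LinearMap.congr_fun h'' m

/-- Transport along linear equivalences. -/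
theorem IsBC.of_equiv {M M' N N' : Type*} [AddCommGroup M] [AddCommGroup M'] [Module A M]
    [Module B M'] [AddCommGroup N] [AddCommGroup N'] [Module A N] [Module B N']
    {ψ : M →+ M'} (h : IsBC φ ψ) (e : M ≃ₗ[A] N) (e' : M' ≃ₗ[B] N') (ψ' : N →+ N')
    (comm : ∀ m, ψ' (e m) = e' (ψ m)) : IsBC φ ψ' := by
  obtain ⟨h1, h2⟩ := h
  have h3 : ∀ (a : A) (n : N), ψ' (a • n) = φ a • ψ' n := by
    intro a n
    obtain ⟨m, rfl⟩ := e.surjective n
    rw [← map_smul, comm, comm, h1, map_smul]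
  refine ⟨h3, ?_⟩
  let _ := φ.toAlgebra
  let _ : Module A M' := Module.compHom M' φ
  let _ : Module A N' := Module.compHom N' φ
  have : IsScalarTower A B M' := ⟨fun a b m => by
    change (φ a * b) • m = φ a • b • m
    rw [mul_smul]⟩
  have : IsScalarTower A B N' := ⟨fun a b m => by
    change (φ a * b) • m = φ a • b • m
    rw [mul_smul]⟩
  refine IsBaseChange.of_equiv ((LinearEquiv.baseChange A B _ _ e).symm ≪≫ₗ h2.equiv ≪≫ₗ e') ?_
  intro n
  obtain ⟨m, rfl⟩ := e.surjective n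
  rw [LinearEquiv.trans_apply, LinearEquiv.trans_apply]
  have : (LinearEquiv.baseChange A B M N e).symm (1 ⊗ₜ[A] e m) = 1 ⊗ₜ[A] m := by
    rw [LinearEquiv.symm_apply_eq]
    simp
  rw [this, h2.equiv_tmul, one_smul]
  exact (comm m).symm

theorem isBaseChange_comp {A B C : Type*} [CommRing A] [CommRing B] [CommRing C] [Algebra A B]
    [Algebra B C] [Algebra A C] [IsScalarTower A B C]
    {M M' M'' : Type*} [AddCommGroup M] [AddCommGroup M'] [AddCommGroup M'']
    [Module A M] [Module B M'] [Module A M'] [IsScalarTower A B M'] [Module C M''] [Module B M'']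
    [Module A M''] [IsScalarTower B C M''] [IsScalarTower A C M''] [IsScalarTower A B M'']
    {ψ : M →ₗ[A] M'} {ψ' : M' →ₗ[B] M''} {ψ'' : M →ₗ[A] M''} (h : IsBaseChange B ψ)
    (h' : IsBaseChange C ψ') (hc : ∀ m, ψ'' m = ψ' (ψ m)) : IsBaseChange C ψ'' := by
  have : ψ'' = (ψ'.restrictScalars A) ∘ₗ ψ := by
    ext m
    exact hc m
  rw [this]
  exact h.comp h'

theorem isBaseChange_of_comp {A B C : Type*} [CommRing A] [CommRing B] [CommRing C] [Algebra A B]
    [Algebra B C] [Algebra A C] [IsScalarTower A B C]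
    {M M' M'' : Type*} [AddCommGroup M] [AddCommGroup M'] [AddCommGroup M'']
    [Module A M] [Module B M'] [Module A M'] [IsScalarTower A B M'] [Module C M''] [Module B M'']
    [Module A M''] [IsScalarTower B C M''] [IsScalarTower A C M''] [IsScalarTower A B M'']
    {ψ : M →ₗ[A] M'} {ψ' : M' →ₗ[B] M''} {ψ'' : M →ₗ[A] M''} (h : IsBaseChange B ψ)
    (h' : IsBaseChange C ψ'') (hc : ∀ m, ψ'' m = ψ' (ψ m)) : IsBaseChange C ψ' := by
  have : ψ'' = (ψ'.restrictScalars A) ∘ₗ ψ := by
    ext m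
    exact hc m
  rw [this] at h'
  exact IsBaseChange.of_comp h h'

/-- Composition of base changes. -/
theorem IsBC.comp {A B C : Type*} [CommRing A] [CommRing B] [CommRing C] {φ : A →+* B}
    {φ' : B →+* C} {M M' M'' : Type*} [AddCommGroup M] [AddCommGroup M'] [AddCommGroup M'']
    [Module A M] [Module B M'] [Module C M''] {ψ : M →+ M'} {ψ' : M' →+ M''}
    (h : IsBC φ ψ) (h' : IsBC φ' ψ') : IsBC (φ'.comp φ) (ψ'.comp ψ) := by
  obtain ⟨h1, h2⟩ := h
  obtain ⟨h1', h2'⟩ := h'
  let _ := φ.toAlgebra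
  let _ := φ'.toAlgebra
  let _ := (φ'.comp φ).toAlgebra
  let _ : Module A M' := Module.compHom M' φ
  let _ : Module B M'' := Module.compHom M'' φ'
  let _ : Module A M'' := Module.compHom M'' (φ'.comp φ)
  have : IsScalarTower A B C := IsScalarTower.of_algebraMap_eq' rfl
  have : IsScalarTower A B M' := ⟨fun a b m => by
    change (φ a * b) • m = φ a • b • m
    rw [mul_smul]⟩
  have : IsScalarTower B C M'' := ⟨fun a b m => by
    change (φ' a * b) • m = φ' a • b • m
    rw [mul_smul]⟩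
  have : IsScalarTower A C M'' := ⟨fun a b m => by
    change (φ' (φ a) * b) • m = φ' (φ a) • b • m
    rw [mul_smul]⟩
  have : IsScalarTower A B M'' := ⟨fun a b m => by
    change (φ' (φ a * b)) • m = φ' (φ a) • φ' b • m
    rw [map_mul, mul_smul]⟩
  refine ⟨fun a m => by
    change ψ' (ψ (a • m)) = _
    rw [h1, h1']
    rfl, ?_⟩
  exact isBaseChange_comp h2 h2' (fun _ => rfl)

/-- Cancellation of base changes. -/
theorem IsBC.of_comp {A B C : Type*} [CommRing A] [CommRing B] [CommRing C] {φ : A →+* B}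
    {φ' : B →+* C} {M M' M'' : Type*} [AddCommGroup M] [AddCommGroup M'] [AddCommGroup M'']
    [Module A M] [Module B M'] [Module C M''] {ψ : M →+ M'} {ψ' : M' →+ M''}
    (h : IsBC φ ψ) (h1' : ∀ (b : B) (m : M'), ψ' (b • m) = φ' b • ψ' m)
    (h' : IsBC (φ'.comp φ) (ψ'.comp ψ)) : IsBC φ' ψ' := by
  obtain ⟨h1, h2⟩ := h
  obtain ⟨h3, h4⟩ := h'
  let _ := φ.toAlgebra
  let _ := φ'.toAlgebra
  let _ := (φ'.comp φ).toAlgebra
  let _ : Module A M' := Module.compHom M' φ
  let _ : Module B M'' := Module.compHom M'' φ'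
  let _ : Module A M'' := Module.compHom M'' (φ'.comp φ)
  have : IsScalarTower A B C := IsScalarTower.of_algebraMap_eq' rfl
  have : IsScalarTower A B M' := ⟨fun a b m => by
    change (φ a * b) • m = φ a • b • m
    rw [mul_smul]⟩
  have : IsScalarTower B C M'' := ⟨fun a b m => by
    change (φ' a * b) • m = φ' a • b • m
    rw [mul_smul]⟩
  have : IsScalarTower A C M'' := ⟨fun a b m => by
    change (φ' (φ a) * b) • m = φ' (φ a) • b • m
    rw [mul_smul]⟩
  have : IsScalarTower A B M'' := ⟨fun a b m => by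
    change (φ' (φ a * b)) • m = φ' (φ a) • φ' b • m
    rw [map_mul, mul_smul]⟩
  refine ⟨h1', ?_⟩
  exact isBaseChange_of_comp h2 h4 (fun _ => rfl)

section canonical

variable {A B : Type*} [CommRing A] [CommRing B] [Algebra A B]

/-- The canonical map `B ⊗ M → M'`. -/
noncomputable def θ {M M' : Type*} [AddCommGroup M] [AddCommGroup M'] [Module A M] [Module B M']
    [Module A M'] [IsScalarTower A B M'] (ψ : M →ₗ[A] M') : B ⊗[A] M →ₗ[B] M' :=
  LinearMap.liftBaseChange B ψ

theorem θ_tmul {M M' : Type*} [AddCommGroup M] [AddCommGroup M'] [Module A M] [Module B M']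
    [Module A M'] [IsScalarTower A B M'] (ψ : M →ₗ[A] M') (b : B) (m : M) :
    θ ψ (b ⊗ₜ m) = b • ψ m := by
  simp [θ]

theorem isBaseChange_iff {M M' : Type*} [AddCommGroup M] [AddCommGroup M'] [Module A M]
    [Module B M'] [Module A M'] [IsScalarTower A B M'] (ψ : M →ₗ[A] M') :
    IsBaseChange B ψ ↔ Function.Bijective (θ (B := B) ψ) := by
  constructor
  · intro h
    have : (θ (B := B) ψ : B ⊗[A] M → M') = h.equiv := by
      funext x
      induction x using TensorProduct.induction_on with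
      | zero => rw [map_zero, map_zero]
      | tmul b m => rw [θ_tmul, h.equiv_tmul]
      | add x y hx hy => rw [map_add, map_add, hx, hy]
    rw [this]
    exact h.equiv.bijective
  · intro h
    exact IsBaseChange.of_equiv (LinearEquiv.ofBijective _ h) fun m => by
      rw [LinearEquiv.ofBijective_apply, θ_tmul, one_smul]

variable {K M N K' M' N' : Type*} [AddCommGroup K] [AddCommGroup M] [AddCommGroup N]
  [AddCommGroup K'] [AddCommGroup M'] [AddCommGroup N'] [Module A K] [Module A M] [Module A N]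
  [Module B K'] [Module B M'] [Module B N'] [Module A K'] [Module A M'] [Module A N']
  [IsScalarTower A B K'] [IsScalarTower A B M'] [IsScalarTower A B N']

theorem θ_naturality {ψM : M →ₗ[A] M'} {ψN : N →ₗ[A] N'} {f : M →ₗ[A] N} {f' : M' →ₗ[B] N'}
    (comm : ∀ m, ψN (f m) = f' (ψM m)) (x : B ⊗[A] M) :
    θ ψN (f.lTensor B x) = f' (θ ψM x) := by
  induction x using TensorProduct.induction_on with
  | zero => simp
  | tmul b m => rw [LinearMap.lTensor_tmul, θ_tmul, θ_tmul, map_smul, comm]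
  | add x y hx hy => simp only [map_add, hx, hy]

theorem isBaseChange_of_leftExact [Module.Flat A B] {i : K →ₗ[A] M} {f : M →ₗ[A] N}
    {i' : K' →ₗ[B] M'} {f' : M' →ₗ[B] N'} {ψK : K →ₗ[A] K'} {ψM : M →ₗ[A] M'} {ψN : N →ₗ[A] N'}
    (hi : Function.Injective i) (hex : Function.Exact i f)
    (hi' : Function.Injective i') (hex' : Function.Exact i' f')
    (c1 : ∀ k, ψM (i k) = i' (ψK k)) (c2 : ∀ m, ψN (f m) = f' (ψM m))
    (hM : IsBaseChange B ψM) (hN : IsBaseChange B ψN) : IsBaseChange B ψK := by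
  rw [isBaseChange_iff] at hM hN ⊢
  constructor
  · rw [injective_iff_map_eq_zero]
    intro x hx
    have h1 : θ ψM (i.lTensor B x) = 0 := by rw [θ_naturality c1, hx, map_zero]
    have h2 : i.lTensor B x = 0 := hM.1 (h1.trans (map_zero _).symm)
    exact Module.Flat.lTensor_preserves_injective_linearMap i hi (h2.trans (map_zero _).symm)
  · intro k'
    obtain ⟨x, hx⟩ := hM.2 (i' k')
    have h1 : θ ψN (f.lTensor B x) = 0 := by
      rw [θ_naturality c2, hx]
      exact (hex' _).2 ⟨k', rfl⟩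
    have h2 : f.lTensor B x = 0 := hN.1 (h1.trans (map_zero _).symm)
    obtain ⟨y, rfl⟩ := (Module.Flat.lTensor_exact B hex x).1 h2
    exact ⟨y, hi' (by rw [← θ_naturality c1, hx])⟩

theorem isBaseChange_of_middle [Module.Flat A B] {i : K →ₗ[A] M} {f : M →ₗ[A] N}
    {i' : K' →ₗ[B] M'} {f' : M' →ₗ[B] N'} {ψK : K →ₗ[A] K'} {ψM : M →ₗ[A] M'} {ψN : N →ₗ[A] N'}
    (hex : Function.Exact i f) (hf : Function.Surjective f)
    (hi' : Function.Injective i') (hex' : Function.Exact i' f')
    (c1 : ∀ k, ψM (i k) = i' (ψK k)) (c2 : ∀ m, ψN (f m) = f' (ψM m))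
    (hK : IsBaseChange B ψK) (hN : IsBaseChange B ψN) : IsBaseChange B ψM := by
  rw [isBaseChange_iff] at hK hN ⊢
  constructor
  · rw [injective_iff_map_eq_zero]
    intro x hx
    have h1 : θ ψN (f.lTensor B x) = 0 := by rw [θ_naturality c2, hx, map_zero]
    have h2 : f.lTensor B x = 0 := hN.1 (h1.trans (map_zero _).symm)
    obtain ⟨y, rfl⟩ := (Module.Flat.lTensor_exact B hex x).1 h2
    rw [θ_naturality c1] at hx
    have h3 : θ ψK y = 0 := hi' (hx.trans (map_zero _).symm)
    rw [hK.1 (h3.trans (map_zero _).symm), map_zero]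
  · intro m'
    obtain ⟨x, hx⟩ := hN.2 (f' m')
    obtain ⟨y, rfl⟩ := LinearMap.lTensor_surjective B hf x
    rw [θ_naturality c2] at hx
    have h1 : f' (m' - θ ψM y) = 0 := by rw [map_sub, hx, sub_self]
    obtain ⟨k', hk'⟩ := (hex' _).1 h1
    obtain ⟨z, rfl⟩ := hK.2 k'
    refine ⟨i.lTensor B z + y, ?_⟩
    rw [map_add, θ_naturality c1, hk', sub_add_cancel]

theorem isBaseChange_of_rightExact {i : K →ₗ[A] M} {f : M →ₗ[A] N}
    {i' : K' →ₗ[B] M'} {f' : M' →ₗ[B] N'} {ψK : K →ₗ[A] K'} {ψM : M →ₗ[A] M'} {ψN : N →ₗ[A] N'}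
    (hex : Function.Exact i f) (hf : Function.Surjective f)
    (hex' : Function.Exact i' f') (hf' : Function.Surjective f')
    (c1 : ∀ k, ψM (i k) = i' (ψK k)) (c2 : ∀ m, ψN (f m) = f' (ψM m))
    (hK : IsBaseChange B ψK) (hM : IsBaseChange B ψM) : IsBaseChange B ψN := by
  rw [isBaseChange_iff] at hK hM ⊢
  constructor
  · rw [injective_iff_map_eq_zero]
    intro x hx
    obtain ⟨y, rfl⟩ := LinearMap.lTensor_surjective B hf x
    rw [θ_naturality c2] at hx
    obtain ⟨k', hk'⟩ := (hex' _).1 hx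
    obtain ⟨z, rfl⟩ := hK.2 k'
    rw [← θ_naturality c1] at hk'
    rw [← hM.1 hk']
    exact (lTensor_exact B hex hf _).2 ⟨z, rfl⟩
  · intro n'
    obtain ⟨m', rfl⟩ := hf' n'
    obtain ⟨x, rfl⟩ := hM.2 m'
    exact ⟨f.lTensor B x, θ_naturality c2 x⟩

end canonical

section exactness

variable {K M N K' M' N' : Type*} [AddCommGroup K] [AddCommGroup M] [AddCommGroup N]
  [AddCommGroup K'] [AddCommGroup M'] [AddCommGroup N'] [Module A K] [Module A M] [Module A N]
  [Module B K'] [Module B M'] [Module B N']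

/-- Kernels: flat base change. -/
theorem IsBC.of_leftExact (hφ : φ.Flat) {i : K →ₗ[A] M} {f : M →ₗ[A] N}
    {i' : K' →ₗ[B] M'} {f' : M' →ₗ[B] N'} {ψK : K →+ K'} {ψM : M →+ M'} {ψN : N →+ N'}
    (hi : Function.Injective i) (hex : Function.Exact i f)
    (hi' : Function.Injective i') (hex' : Function.Exact i' f')
    (c1 : ∀ k, ψM (i k) = i' (ψK k)) (c2 : ∀ m, ψN (f m) = f' (ψM m))
    (hM : IsBC φ ψM) (hN : IsBC φ ψN) : IsBC φ ψK := by
  obtain ⟨sM, hM⟩ := hM
  obtain ⟨sN, hN⟩ := hN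
  have sK : ∀ (a : A) (k : K), ψK (a • k) = φ a • ψK k := fun a k => hi' (by
    rw [← c1, map_smul, sM, c1, map_smul])
  refine ⟨sK, ?_⟩
  let _ := φ.toAlgebra
  have : Module.Flat A B := hφ
  let _ : Module A K' := Module.compHom K' φ
  let _ : Module A M' := Module.compHom M' φ
  let _ : Module A N' := Module.compHom N' φ
  have : IsScalarTower A B K' := ⟨fun a b m => by
    change (φ a * b) • m = φ a • b • m
    rw [mul_smul]⟩
  have : IsScalarTower A B M' := ⟨fun a b m => by
    change (φ a * b) • m = φ a • b • m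
    rw [mul_smul]⟩
  have : IsScalarTower A B N' := ⟨fun a b m => by
    change (φ a * b) • m = φ a • b • m
    rw [mul_smul]⟩
  exact isBaseChange_of_leftExact hi hex hi' hex' c1 c2 hM hN

/-- Extensions: flat base change. -/
theorem IsBC.of_middle (hφ : φ.Flat) {i : K →ₗ[A] M} {f : M →ₗ[A] N}
    {i' : K' →ₗ[B] M'} {f' : M' →ₗ[B] N'} {ψK : K →+ K'} {ψM : M →+ M'} {ψN : N →+ N'}
    (sM : ∀ (a : A) (m : M), ψM (a • m) = φ a • ψM m)
    (hex : Function.Exact i f) (hf : Function.Surjective f)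
    (hi' : Function.Injective i') (hex' : Function.Exact i' f')
    (c1 : ∀ k, ψM (i k) = i' (ψK k)) (c2 : ∀ m, ψN (f m) = f' (ψM m))
    (hK : IsBC φ ψK) (hN : IsBC φ ψN) : IsBC φ ψM := by
  obtain ⟨sK, hK⟩ := hK
  obtain ⟨sN, hN⟩ := hN
  refine ⟨sM, ?_⟩
  let _ := φ.toAlgebra
  have : Module.Flat A B := hφ
  let _ : Module A K' := Module.compHom K' φ
  let _ : Module A M' := Module.compHom M' φ
  let _ : Module A N' := Module.compHom N' φ
  have : IsScalarTower A B K' := ⟨fun a b m => by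
    change (φ a * b) • m = φ a • b • m
    rw [mul_smul]⟩
  have : IsScalarTower A B M' := ⟨fun a b m => by
    change (φ a * b) • m = φ a • b • m
    rw [mul_smul]⟩
  have : IsScalarTower A B N' := ⟨fun a b m => by
    change (φ a * b) • m = φ a • b • m
    rw [mul_smul]⟩
  exact isBaseChange_of_middle hex hf hi' hex' c1 c2 hK hN

/-- Cokernels. -/
theorem IsBC.of_rightExact {i : K →ₗ[A] M} {f : M →ₗ[A] N}
    {i' : K' →ₗ[B] M'} {f' : M' →ₗ[B] N'} {ψK : K →+ K'} {ψM : M →+ M'} {ψN : N →+ N'}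
    (hex : Function.Exact i f) (hf : Function.Surjective f)
    (hex' : Function.Exact i' f') (hf' : Function.Surjective f')
    (c1 : ∀ k, ψM (i k) = i' (ψK k)) (c2 : ∀ m, ψN (f m) = f' (ψM m))
    (hK : IsBC φ ψK) (hM : IsBC φ ψM) : IsBC φ ψN := by
  obtain ⟨sM, hM⟩ := hM
  obtain ⟨sK, hK⟩ := hK
  have sN : ∀ (a : A) (n : N), ψN (a • n) = φ a • ψN n := fun a n => by
    obtain ⟨m, rfl⟩ := hf n
    rw [← map_smul, c2, sM, map_smul, c2]
  refine ⟨sN, ?_⟩
  let _ := φ.toAlgebra
  let _ : Module A K' := Module.compHom K' φ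
  let _ : Module A M' := Module.compHom M' φ
  let _ : Module A N' := Module.compHom N' φ
  have : IsScalarTower A B K' := ⟨fun a b m => by
    change (φ a * b) • m = φ a • b • m
    rw [mul_smul]⟩
  have : IsScalarTower A B M' := ⟨fun a b m => by
    change (φ a * b) • m = φ a • b • m
    rw [mul_smul]⟩
  have : IsScalarTower A B N' := ⟨fun a b m => by
    change (φ a * b) • m = φ a • b • m
    rw [mul_smul]⟩
  exact isBaseChange_of_rightExact hex hf hex' hf' c1 c2 hK hM

end exactness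

end K644.Alg
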