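import Groth.Agent.AlgSp.K644.Psh
import Groth.Agent.AlgSp.K644.Alg
import Mathlib.Algebra.Category.ModuleCat.Sheaf.Colimits

/-!
# Colimits of modules which are cartesian on affine objects
-/

set_option autoImplicit false

universe w v d u w₁ w₂

open CategoryTheory CategoryTheory.Limits AlgebraicGeometry Opposite TensorProduct

namespace K644.Colim

open Groth.Agent.Etbase.FFExact K644.Site K644.Psh K644.Alg

variable {D : Type d} [Category.{v} D] {J : GrothendieckTopology D} {T : D ⥤ Scheme.{u}}

section pre

variable {R : Dᵒᵖ ⥤ RingCat.{u + 1}} [Str T R] {K : Type w₁} [Category.{w₂} K]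
  {G : K ⥤ PresheafOfModules.{u + 1} R} (c : Cocone G)

variable (T) in
/-- The maps of a cocone on sections. -/
noncomputable def incl (k : K) (U : D) :
    (G.obj k).presheaf.obj (op U) →ₗ[Γ(T.obj U, ⊤)] c.pt.presheaf.obj (op U) :=
  lin T (Q := c.pt) (c.ι.app k) U

theorem incl_map (k : K) {V U : D} (g : V ⟶ U) (x : (G.obj k).presheaf.obj (op U)) :
    incl T c k V ((G.obj k).presheaf.map g.op x) = c.pt.presheaf.map g.op (incl T c k U x) :=
  lin_map (Q := c.pt) (c.ι.app k) g x

theorem w_apply {k k' : K} (f : k ⟶ k') (U : D) (x : (G.obj k).presheaf.obj (op U)) :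
    incl T c k' U (lin T (G.map f) U x) = incl T c k U x := by
  exact congrArg (fun z => lin T (Q := c.pt) z U x) (c.w f)

/-- A module over the functions as a module over the ring of sections. -/
noncomputable abbrev toR (T : D ⥤ Scheme.{u}) (R : Dᵒᵖ ⥤ RingCat.{u + 1}) [Str T R] (V : D)
    (Q : Type (u + 1)) [AddCommGroup Q] [Module Γ(T.obj V, ⊤) Q] : Module (R.obj (op V)) Q :=
  Module.compHom Q (Str.ρ (T := T) (R := R) V).symm.toRingHom

variable {c}

/-- Colimits on sections: the universal property over the functions. -/
theorem desc_exists {V : D} (hc : IsColimit ((PresheafOfModules.evaluation R (op V)).mapCocone c))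
    {Q : Type (u + 1)} [AddCommGroup Q] [Module Γ(T.obj V, ⊤) Q]
    (g : ∀ k, (G.obj k).presheaf.obj (op V) →ₗ[Γ(T.obj V, ⊤)] Q)
    (hg : ∀ {k k' : K} (f : k ⟶ k') (x : (G.obj k).presheaf.obj (op V)),
      g k' (lin T (G.map f) V x) = g k x) :
    ∃ l : c.pt.presheaf.obj (op V) →ₗ[Γ(T.obj V, ⊤)] Q,
      ∀ k (x : (G.obj k).presheaf.obj (op V)), l (incl T c k V x) = g k x := by
  let _ := toR T R V Q
  have smulQ : ∀ (a : R.obj (op V)) (q : Q),
      a • q = (Str.ρ (T := T) (R := R) V).symm a • q := fun _ _ => rfl
  let s : Cocone (G ⋙ PresheafOfModules.evaluation R (op V)) :=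
    { pt := ModuleCat.of (R.obj (op V)) Q
      ι :=
        { app := fun k => ModuleCat.ofHom (X := (G.obj k).obj (op V))
            { toFun := fun x => g k x
              map_add' := fun x y => map_add (g k) x y
              map_smul' := fun a x => by
                change g k _ = a • g k x
                rw [smulQ, ← map_smul]
                congr 1
                change a • x = Str.ρ (T := T) (R := R) V ((Str.ρ (T := T) (R := R) V).symm a) • x
                rw [RingEquiv.apply_symm_apply] }
          naturality := fun k k' f => by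
            ext x
            exact hg f x } }
  refine ⟨{ toFun := fun x => (hc.desc s).hom x
            map_add' := fun x y => map_add (hc.desc s).hom x y
            map_smul' := fun a x => ?_ }, ?_⟩
  · have h := (hc.desc s).hom.map_smul (Str.ρ (T := T) (R := R) V a) x
    refine h.trans ?_
    change (Str.ρ (T := T) (R := R) V).symm (Str.ρ (T := T) (R := R) V a) •
      (show Q from (hc.desc s).hom x) = _
    rw [RingEquiv.symm_apply_apply]
    rfl
  · intro k x
    exact ConcreteCategory.congr_hom (hc.fac s k) x

theorem hom_ext {V : D} (hc : IsColimit ((PresheafOfModules.evaluation R (op V)).mapCocone c))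
    {Q : Type (u + 1)} [AddCommGroup Q] [Module Γ(T.obj V, ⊤) Q]
    (l l' : c.pt.presheaf.obj (op V) →ₗ[Γ(T.obj V, ⊤)] Q)
    (h : ∀ k (x : (G.obj k).presheaf.obj (op V)),
      l (incl T c k V x) = l' (incl T c k V x)) : l = l' := by
  let _ := toR T R V Q
  have smulQ : ∀ (a : R.obj (op V)) (q : Q),
      a • q = (Str.ρ (T := T) (R := R) V).symm a • q := fun _ _ => rfl
  let tr : (c.pt.presheaf.obj (op V) →ₗ[Γ(T.obj V, ⊤)] Q) →
      (((PresheafOfModules.evaluation R (op V)).mapCocone c).pt ⟶ ModuleCat.of (R.obj (op V)) Q) :=
    fun l => ModuleCat.ofHom (X := c.pt.obj (op V))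
      { toFun := fun x => l x
        map_add' := fun x y => map_add l x y
        map_smul' := fun a x => by
          change l _ = a • l x
          rw [smulQ, ← map_smul]
          congr 1
          change a • x = Str.ρ (T := T) (R := R) V ((Str.ρ (T := T) (R := R) V).symm a) • x
          rw [RingEquiv.apply_symm_apply] }
  have : tr l = tr l' := hc.hom_ext fun k => by
    ext x
    exact h k x
  ext x
  exact ConcreteCategory.congr_hom this x

/-- Colimits of presheaves cartesian on affine objects are so. -/
theorem isQC_of_isColimit_presheaf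
    (hc : ∀ V : D, Nonempty (IsColimit ((PresheafOfModules.evaluation R (op V)).mapCocone c)))
    (h : ∀ k, IsQC T (G.obj k)) : IsQC T c.pt := by
  intro V U g hV hU
  refine IsBC.of_lift.{u, u + 1} (fun a m => map_smul' c.pt g a m) ?_
  intro Q _ _ f hf
  have key : ∀ k, ∃! g' : (G.obj k).presheaf.obj (op V) →ₗ[Γ(T.obj V, ⊤)] Q,
      ∀ m, g' (((G.obj k).presheaf.map g.op).hom m) = f (incl T c k U m) := fun k =>
    IsBC.existsUnique_lift (h k g hV hU)
      (f.comp (incl T c k U : (G.obj k).presheaf.obj (op U) →+ c.pt.presheaf.obj (op U)))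
      (fun a m => by
        change f (incl T c k U (a • m)) = _
        rw [map_smul, hf]
        rfl)
  choose g' hg' huniq using key
  obtain ⟨l, hl⟩ := desc_exists (hc V).some g' (by
    intro k k' p x
    have := IsBC.hom_ext (h k g hV hU) ((g' k').comp (lin T (G.map p) V)) (g' k) (fun m => by
      rw [hg']
      change g' k' (lin T (G.map p) V ((G.obj k).presheaf.map g.op m)) = _
      rw [lin_map]
      exact (hg' k' _).trans (congrArg f (w_apply c p U m)))
    exact LinearMap.congr_fun this x)
  refine ⟨l, ?_, ?_⟩
  · let _ : Module Γ(T.obj U, ⊤) Q := Module.compHom Q (T.map g).appTop.hom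
    have := hom_ext (hc U).some (Q := Q)
      { toFun := fun m => l (c.pt.presheaf.map g.op m)
        map_add' := fun x y => by rw [map_add, map_add]
        map_smul' := fun a x => by
          rw [map_smul', map_smul]
          rfl }
      { toFun := fun m => f m
        map_add' := map_add f
        map_smul' := hf } (by
        intro k x
        change l (c.pt.presheaf.map g.op (incl T c k U x)) = f _
        rw [← incl_map, hl]
        exact hg' k x)
    intro m
    exact LinearMap.congr_fun this m
  · intro l' hl'
    refine hom_ext (hc V).some _ _ fun k x => ?_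
    rw [hl]
    have := huniq k (l'.comp (incl T c k V)) (fun m => by
      change l' (incl T c k V ((G.obj k).presheaf.map g.op m)) = _
      rw [incl_map]
      exact hl' _)
    exact LinearMap.congr_fun this x

end pre

/-- Transport along morphisms bijective on affine objects. -/
theorem IsQC.of_bijective {R : Dᵒᵖ ⥤ RingCat.{w}} [Str T R] {P Q : PresheafOfModules.{w} R}
    (φ : P ⟶ Q)
    (hφ : ∀ U : D, IsAffine (T.obj U) → Function.Bijective ((ab φ).app (op U))) (h : IsQC T P) :
    IsQC T Q := by
  intro V U g hV hU
  exact IsBC.of_equiv (h g hV hU) (LinearEquiv.ofBijective (lin T φ U) (hφ U hU))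
    (LinearEquiv.ofBijective (lin T φ V) (hφ V hV)) _ (fun m => (lin_map φ g m).symm)

section sheaf

variable {R : Sheaf J RingCat.{w}} {K : Type w₁} [Category.{w₂} K]
  [HasWeakSheafify J AddCommGrpCat.{w}]
  [J.WEqualsLocallyBijective AddCommGrpCat.{w}]
  {G : K ⥤ SheafOfModules.{w} R}

/-- The sheafification map of a presheaf of modules, without restriction of scalars. -/
noncomputable def toSh (P : PresheafOfModules.{w} R.obj) :
    P ⟶ ((PresheafOfModules.sheafification (𝟙 R.obj)).obj P).val :=
  PresheafOfModules.homMk (CategoryTheory.toSheafify J P.presheaf) (fun X r m =>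
    ((PresheafOfModules.toSheafify (𝟙 R.obj) (CategoryTheory.toSheafify J P.presheaf)).app
      X).hom.map_smul r m)

theorem ab_toSh (P : PresheafOfModules.{w} R.obj) :
    (PresheafOfModules.toPresheaf R.obj).map (toSh (J := J) P) =
      CategoryTheory.toSheafify J P.presheaf := rfl

instance (P : PresheafOfModules.{w} R.obj) :
    PresheafOfModules.IsLocallyInjective J (toSh (J := J) P) :=
  inferInstanceAs (Presheaf.IsLocallyInjective J (CategoryTheory.toSheafify J P.presheaf))

instance (P : PresheafOfModules.{w} R.obj) :
    PresheafOfModules.IsLocallySurjective J (toSh (J := J) P) :=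
  inferInstanceAs (Presheaf.IsLocallySurjective J (CategoryTheory.toSheafify J P.presheaf))

/-- The sheafified cocone. -/
noncomputable def shCocone (cP : Cocone (G ⋙ SheafOfModules.forget R)) : Cocone G where
  pt := (PresheafOfModules.sheafification (𝟙 R.obj)).obj cP.pt
  ι :=
    { app := fun k => ⟨cP.ι.app k ≫ toSh cP.pt⟩
      naturality := fun k k' f => by
        ext1
        exact (congrArg (fun z => z ≫ toSh cP.pt) (cP.w f)).trans (Category.comp_id _).symm }

/-- The sheafified cocone is a colimit. -/
noncomputable def shCoconeIsColimit {cP : Cocone (G ⋙ SheafOfModules.forget R)}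
    (hcP : IsColimit cP) : IsColimit (shCocone cP) where
  desc s := ⟨(PresheafOfModules.homEquivOfIsLocallyBijective (f := toSh cP.pt)
    s.pt.isSheaf).symm (hcP.desc ((SheafOfModules.forget R).mapCocone s))⟩
  fac s k := by
    ext1
    have h1 := (PresheafOfModules.homEquivOfIsLocallyBijective (f := toSh cP.pt)
      s.pt.isSheaf).apply_symm_apply (hcP.desc ((SheafOfModules.forget R).mapCocone s))
    change (cP.ι.app k ≫ toSh cP.pt) ≫ _ = _
    rw [Category.assoc]
    refine (congrArg (fun z => cP.ι.app k ≫ z) h1).trans ?_
    exact hcP.fac _ k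
  uniq s m hm := by
    ext1
    apply (PresheafOfModules.homEquivOfIsLocallyBijective (f := toSh cP.pt)
      s.pt.isSheaf).injective
    refine Eq.trans ?_ (Equiv.apply_symm_apply _ _).symm
    refine hcP.hom_ext fun k => ?_
    refine Eq.trans ?_ (hcP.fac ((SheafOfModules.forget R).mapCocone s) k).symm
    exact congrArg SheafOfModules.Hom.val (hm k)

theorem locallyBijective_desc {c : Cocone G} (hc : IsColimit c)
    {cP : Cocone (G ⋙ SheafOfModules.forget R)} (hcP : IsColimit cP) :
    PresheafOfModules.IsLocallyInjective J
      (hcP.desc ((SheafOfModules.forget R).mapCocone c)) ∧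
    PresheafOfModules.IsLocallySurjective J
      (hcP.desc ((SheafOfModules.forget R).mapCocone c)) := by
  let i := hc.coconePointUniqueUpToIso (shCoconeIsColimit hcP)
  have h : hcP.desc ((SheafOfModules.forget R).mapCocone c) =
      toSh cP.pt ≫ ((SheafOfModules.forget R).mapIso i).inv := by
    refine hcP.hom_ext fun k => ?_
    rw [hcP.fac]
    have := congrArg SheafOfModules.Hom.val
      (hc.comp_coconePointUniqueUpToIso_inv (shCoconeIsColimit hcP) k)
    rw [← Category.assoc]
    exact this.symm
  rw [h]
  unfold PresheafOfModules.IsLocallyInjective PresheafOfModules.IsLocallySurjective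
  rw [Functor.map_comp]
  have h1 : PresheafOfModules.IsLocallyInjective J (toSh (J := J) cP.pt) := inferInstance
  have h2 : PresheafOfModules.IsLocallySurjective J (toSh (J := J) cP.pt) := inferInstance
  unfold PresheafOfModules.IsLocallyInjective at h1
  unfold PresheafOfModules.IsLocallySurjective at h2
  constructor <;> infer_instance

end sheaf

section main

variable [HasPullbacks D] [PreservesLimitsOfShape WalkingCospan T] [QCSite J T]
  {R : Sheaf J RingCat.{u + 1}} [Str T R.obj] {K : Type w₁} [Category.{w₂} K]
  [HasWeakSheafify J AddCommGrpCat.{u + 1}]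
  [J.WEqualsLocallyBijective AddCommGrpCat.{u + 1}]
  {G : K ⥤ SheafOfModules.{u + 1} R}

/-- Colimits of modules cartesian on affine objects are computed on affine objects. -/
theorem bijective_desc_app {c : Cocone G} (hc : IsColimit c)
    {cP : Cocone (G ⋙ SheafOfModules.forget R)}
    (hcP : ∀ V : D, Nonempty (IsColimit ((PresheafOfModules.evaluation R.obj (op V)).mapCocone cP)))
    (hcP' : IsColimit cP) (h : ∀ k, IsQC T (G.obj k).val) (U : D) (hU : IsAffine (T.obj U)) :
    Function.Bijective ((ab (hcP'.desc ((SheafOfModules.forget R).mapCocone c))).app (op U)) := by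
  have := locallyBijective_desc hc hcP'
  exact bijective_app (IsQC.affSheaf (isQC_of_isColimit_presheaf hcP h)) c.pt.isSheaf _
    this.1 this.2 U hU

variable [HasColimitsOfShape K AddCommGrpCat.{u + 1}]

/-- Colimits of modules cartesian on affine objects are cartesian on affine objects. -/
theorem isQC_of_isColimit {c : Cocone G} (hc : IsColimit c) (h : ∀ k, IsQC T (G.obj k).val) :
    IsQC T c.pt.val := by
  let cP := colimit.cocone (G ⋙ SheafOfModules.forget R)
  let hcP' : IsColimit cP := colimit.isColimit _
  have hcP : ∀ V : D, Nonempty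
      (IsColimit ((PresheafOfModules.evaluation R.obj (op V)).mapCocone cP)) := fun V =>
    ⟨isColimitOfPreserves _ hcP'⟩
  exact IsQC.of_bijective (Q := c.pt.val) _ (bijective_desc_app hc hcP hcP' h)
    (isQC_of_isColimit_presheaf hcP h)

/-- Colimits of modules cartesian on affine objects: the sections over an affine object are the
colimit. -/
theorem isColimit_eval {c : Cocone G} (hc : IsColimit c) (h : ∀ k, IsQC T (G.obj k).val)
    (U : D) (hU : IsAffine (T.obj U)) :
    Nonempty (IsColimit ((SheafOfModules.evaluation R (op U)).mapCocone c)) := by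
  let cP := colimit.cocone (G ⋙ SheafOfModules.forget R)
  let hcP' : IsColimit cP := colimit.isColimit _
  have hcP : ∀ V : D, Nonempty
      (IsColimit ((PresheafOfModules.evaluation R.obj (op V)).mapCocone cP)) := fun V =>
    ⟨isColimitOfPreserves _ hcP'⟩
  have hb := bijective_desc_app hc hcP hcP' h U hU
  let l : cP.pt ⟶ c.pt.val := hcP'.desc ((SheafOfModules.forget R).mapCocone c)
  have hl : ∀ k, cP.ι.app k ≫ l = (c.ι.app k).val := fun k =>
    hcP'.fac ((SheafOfModules.forget R).mapCocone c) k
  let e : cP.pt.obj (op U) ≅ c.pt.val.obj (op U) :=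
    (LinearEquiv.ofBijective (l.app (op U)).hom hb).toModuleIso
  refine ⟨IsColimit.ofIsoColimit (hcP U).some (Cocone.ext e fun k => ?_)⟩
  have := congrArg (fun z => PresheafOfModules.Hom.app z (op U)) (hl k)
  exact this

end main

end K644.Colim
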