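import Groth.Agent.AlgSp.K644.FinAlg
import Groth.Agent.AlgSp.K644.QCoh

/-!
# Modules of finite type and of finite presentation, on affine objects
-/

set_option autoImplicit false

universe w v d u w₁ w₂

open CategoryTheory CategoryTheory.Limits AlgebraicGeometry Opposite TensorProduct

namespace K644.Fin

open Groth.Agent.Etbase.FFExact K644.Site K644.Psh K644.Alg K644.Colim K644.Exact K644.Free
  K644.Slice K644.Pres K644.Local K644.QCoh K644.FinAlg

variable {D : Type d} [Category.{v} D] {J : GrothendieckTopology D} {T : D ⥤ Scheme.{u}}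

/-- Descent of a property of affine objects along coverings. -/
theorem descend [QCSite J T] (P : D → Prop)
    (hff : ∀ {V U : D} (f : V ⟶ U), AffCov J T f → P V → P U)
    (hdec : ∀ {V : D} {ι : Type} (Y : ι → D) (s : ∀ i, Y i ⟶ V), Decomp J T Y s →
      (∀ i, P (Y i)) → P V) {U : D} (hU : IsAffine (T.obj U)) {S : Sieve U} (hS : S ∈ J U)
    (h : ∀ (V : D) (f : V ⟶ U), S f → IsAffine (T.obj V) → P V) : P U := by
  obtain ⟨V, f, ι, Y, s, h1, h2, h3⟩ := QCSite.exists_cover (J := J) (T := T) U hU S hS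
  exact hff f h1 (hdec Y s h2 fun i => h _ _ (h3 i) (h2.aff i))

variable {R : Sheaf J RingCat.{u + 1}} [Str T R.obj]

/-- Finiteness of sections descends. -/
theorem finite_descend [QCSite J T] {M : SheafOfModules.{u + 1} R} (hM : IsQC T M.val)
    {U : D} (hU : IsAffine (T.obj U)) {S : Sieve U} (hS : S ∈ J U)
    (h : ∀ (V : D) (f : V ⟶ U), S f → IsAffine (T.obj V) →
      Module.Finite Γ(T.obj V, ⊤) (sec M V)) : Module.Finite Γ(T.obj U, ⊤) (sec M U) := by
  refine descend (fun U => Module.Finite Γ(T.obj U, ⊤) (sec M U)) ?_ ?_ hU hS h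
  · intro V U f hf hV
    exact finite_of_ff hf.ff (hM f hf.src hf.tgt)
  · intro V ι Y s hs hY
    have := hs.fin
    exact finite_of_decomp hs.bij (fun i => hM (s i) (hs.aff i) hs.tgt)

/-- Finite presentation of sections descends. -/
theorem fp_descend [QCSite J T] {M : SheafOfModules.{u + 1} R} (hM : IsQC T M.val)
    {U : D} (hU : IsAffine (T.obj U)) {S : Sieve U} (hS : S ∈ J U)
    (h : ∀ (V : D) (f : V ⟶ U), S f → IsAffine (T.obj V) →
      Module.FinitePresentation Γ(T.obj V, ⊤) (sec M V)) :
    Module.FinitePresentation Γ(T.obj U, ⊤) (sec M U) := by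
  refine descend (fun U => Module.FinitePresentation Γ(T.obj U, ⊤) (sec M U)) ?_ ?_ hU hS h
  · intro V U f hf hV
    exact fp_of_ff hf.ff (hM f hf.src hf.tgt)
  · intro V ι Y s hs hY
    have := hs.fin
    exact fp_of_decomp hs.bij (fun i => hM (s i) (hs.aff i) hs.tgt)

variable [∀ X, HasSheafify (J.over X) AddCommGrpCat.{u + 1}]
  [∀ X, (J.over X).WEqualsLocallyBijective AddCommGrpCat.{u + 1}]
  [HasPullbacks D] [PreservesLimitsOfShape WalkingCospan T] [QCSite J T]

/-- Sections over affine objects of quasi-coherent modules of finite type are finite. -/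
theorem finite_of_isFiniteType {M : SheafOfModules.{u + 1} R} (hM : IsQC T M.val)
    [h : M.IsFiniteType] (U : D) (hU : IsAffine (T.obj U)) :
    Module.Finite Γ(T.obj U, ⊤) (sec M U) := by
  obtain ⟨q, hq⟩ := h
  refine finite_descend hM hU (q.coversTop U) ?_
  rintro V f hf hV
  obtain ⟨i, ⟨p⟩⟩ := (Sieve.mem_ofObjects_iff ..).mp hf
  have := hq.isFiniteType i
  exact finite_sec (T := oT T (q.X i)) (isQC_over hM (q.X i)) (q.generators i) (Over.mk p) hV

variable [FlatMaps T]

/-- Sections over affine objects of modules of finite presentation are of finite presentation. -/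
theorem fp_of_isFinitePresentation (M : SheafOfModules.{u + 1} R)
    [h : M.IsFinitePresentation] (U : D) (hU : IsAffine (T.obj U)) :
    Module.FinitePresentation Γ(T.obj U, ⊤) (sec M U) := by
  have hM : IsQC T M.val := isQC_of_isQuasicoherent M
  obtain ⟨q, hq⟩ := h
  refine fp_descend hM hU (q.coversTop U) ?_
  rintro V f hf hV
  obtain ⟨i, ⟨p⟩⟩ := (Sieve.mem_ofObjects_iff ..).mp hf
  have := hq.isFinite_presentation i
  exact finitePresentation_sec (T := oT T (q.X i)) (q.presentation i) (Over.mk p) hV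

omit [FlatMaps T] in
theorem isFiniteType_of_family {M : SheafOfModules.{u + 1} R} (hM : IsQC T M.val)
    {I : Type d} (E : I → D) (hE : ∀ i, IsAffine (T.obj (E i))) (hcov : J.CoversTop E)
    (h : ∀ i, Module.Finite Γ(T.obj (E i), ⊤) (sec M (E i))) : M.IsFiniteType := by
  have : ∀ i, ∃ σ : (M.over (E i)).GeneratingSections, σ.IsFiniteType := fun i =>
    have : Module.Finite Γ((oT T (E i)).obj (Over.mk (𝟙 (E i))), ⊤)
      (sec (M.over (E i)) (Over.mk (𝟙 (E i)))) := h i
    exists_generating (T := oT T (E i)) (t := Over.mk (𝟙 (E i))) Over.mkIdTerminal (hE i)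
      (isQC_over hM (E i))
  choose σ hσ using this
  let q := SheafOfModules.LocalGeneratorsData.mk (M := M) I E hcov σ
  have hq : q.IsFiniteType := { isFiniteType := hσ }
  exact SheafOfModules.IsFiniteType.mk (M := M) ⟨q, hq⟩

theorem isFinitePresentation_of_family {M : SheafOfModules.{u + 1} R} (hM : IsQC T M.val)
    {I : Type d} (E : I → D) (hE : ∀ i, IsAffine (T.obj (E i))) (hcov : J.CoversTop E)
    (h : ∀ i, Module.FinitePresentation Γ(T.obj (E i), ⊤) (sec M (E i))) :
    M.IsFinitePresentation := by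
  have : ∀ i, ∃ σ : (M.over (E i)).Presentation, σ.IsFinite := fun i =>
    have : Module.FinitePresentation Γ((oT T (E i)).obj (Over.mk (𝟙 (E i))), ⊤)
      (sec (M.over (E i)) (Over.mk (𝟙 (E i)))) := h i
    exists_finite_presentation (T := oT T (E i)) (t := Over.mk (𝟙 (E i))) Over.mkIdTerminal (hE i)
      (isQC_over hM (E i))
  choose σ hσ using this
  let q := SheafOfModules.QuasicoherentData.mk (M := M) I E hcov σ
  have hq : q.IsFinitePresentation := { isFinite_presentation := hσ }
  exact SheafOfModules.IsFinitePresentation.mk (M := M) ⟨q, hq⟩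

omit [FlatMaps T] in
/-- Modules of finite type: finite sections over all affine objects. -/
theorem isFiniteType_iff {M : SheafOfModules.{u + 1} R} (hM : IsQC T M.val) :
    M.IsFiniteType ↔ ∀ U : D, IsAffine (T.obj U) → Module.Finite Γ(T.obj U, ⊤) (sec M U) :=
  ⟨fun _ U hU => finite_of_isFiniteType hM U hU, fun h =>
    isFiniteType_of_family (I := {E : D // IsAffine (T.obj E)}) hM (fun E => E.1) (fun E => E.2)
      (coversTop_affine (T := T) _ fun U hU => ⟨⟨U, hU⟩, ⟨𝟙 _⟩⟩) (fun E => h E.1 E.2)⟩

variable (T) in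
/-- Modules of finite presentation. -/
theorem isFinitePresentation_iff (M : SheafOfModules.{u + 1} R) :
    M.IsFinitePresentation ↔ IsQC T M.val ∧
      ∀ U : D, IsAffine (T.obj U) → Module.FinitePresentation Γ(T.obj U, ⊤) (sec M U) :=
  ⟨fun _ => ⟨isQC_of_isQuasicoherent M, fun U hU => fp_of_isFinitePresentation M U hU⟩, fun h =>
    isFinitePresentation_of_family (I := {E : D // IsAffine (T.obj E)}) h.1 (fun E => E.1)
      (fun E => E.2) (coversTop_affine (T := T) _ fun U hU => ⟨⟨U, hU⟩, ⟨𝟙 _⟩⟩)
      (fun E => h.2 E.1 E.2)⟩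

end K644.Fin
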