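import Groth.Agent.AlgSp.K644.Chart
import Groth.Agent.AlgSp.K644.Fin

/-!
# Finite type and finite presentation on the small étale site of a space
-/

set_option autoImplicit false

universe u

open CategoryTheory CategoryTheory.Limits AlgebraicGeometry Opposite

namespace K644.ChartFin

open AlgSp K644.Site K644.Psh K644.Exact K644.EtSite K644.QCoh K644.Chart K644.Fin
  Groth.Agent.Etbase.FFExact

variable {S : Scheme.{u}} {X : Sp S}

open scoped K644.Chart

/-- Quasi-coherent modules of finite type: the sections over all affine objects are finite. -/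
theorem isFiniteType_iff (M : ModEt X) [M.IsQuasicoherent] :
    M.IsFiniteType ↔ ∀ E : EtOver X, IsAffine E.obj.left.left →
      Module.Finite Γ(E.obj.left.left, ⊤) (M.val.presheaf.obj (op E)) :=
  K644.Fin.isFiniteType_iff (T := EtOver.toScheme X) (isQC M)

/-- Modules of finite presentation. -/
theorem isFinitePresentation_iff (M : ModEt X) :
    M.IsFinitePresentation ↔ IsCart M ∧ ∀ E : EtOver X, IsAffine E.obj.left.left →
      Module.FinitePresentation Γ(E.obj.left.left, ⊤) (M.val.presheaf.obj (op E)) :=
  (K644.Fin.isFinitePresentation_iff (EtOver.toScheme X) M).trans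
    (and_congr (isCart_iff_isQC M).symm Iff.rfl)

theorem finite_sec (M : ModEt X) [M.IsQuasicoherent] [M.IsFiniteType] {E : EtOver X}
    (hE : IsAffine E.obj.left.left) :
    Module.Finite Γ(E.obj.left.left, ⊤) (M.val.presheaf.obj (op E)) :=
  (isFiniteType_iff M).1 inferInstance E hE

theorem fp_sec (M : ModEt X) [M.IsFinitePresentation] {E : EtOver X}
    (hE : IsAffine E.obj.left.left) :
    Module.FinitePresentation Γ(E.obj.left.left, ⊤) (M.val.presheaf.obj (op E)) :=
  ((isFinitePresentation_iff M).1 inferInstance).2 E hE

/-- A family of affine objects which is jointly surjective in the sense that it covers the top. -/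
theorem isFiniteType_of_family (M : ModEt X) [M.IsQuasicoherent] {I : Type (u + 1)}
    (E : I → EtOver X) (hE : ∀ i, IsAffine (E i).obj.left.left) (hcov : (etTop X).CoversTop E)
    (h : ∀ i, Module.Finite Γ((E i).obj.left.left, ⊤) (M.val.presheaf.obj (op (E i)))) :
    M.IsFiniteType :=
  K644.Fin.isFiniteType_of_family (T := EtOver.toScheme X) (isQC M) E hE hcov h

theorem isFinitePresentation_of_family (M : ModEt X) [M.IsQuasicoherent] {I : Type (u + 1)}
    (E : I → EtOver X) (hE : ∀ i, IsAffine (E i).obj.left.left) (hcov : (etTop X).CoversTop E)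
    (h : ∀ i, Module.FinitePresentation Γ((E i).obj.left.left, ⊤)
      (M.val.presheaf.obj (op (E i)))) :
    M.IsFinitePresentation :=
  K644.Fin.isFinitePresentation_of_family (T := EtOver.toScheme X) (isQC M) E hE hcov h

end K644.ChartFin
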