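import Groth.Agent.AlgSp.K644.EtSite
import Groth.Agent.AlgSp.K609.Points
import Mathlib.CategoryTheory.Sites.CoversTop.Basic

/-!
# Points and coverings of the small étale site
-/

set_option autoImplicit false

universe u

open CategoryTheory CategoryTheory.Limits AlgebraicGeometry Opposite

namespace K644.PtCover

open AlgSp K644.Site K644.EtSite

variable {S : Scheme.{u}} {X : Sp S}

/-- The point of `|X|` below a point of an object. -/
noncomputable abbrev pt (E : EtOver X) (x : sch E) : Points X := Points.ofPt E.obj.hom x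

theorem pt_mor {E E' : EtOver X} (g : E' ⟶ E) (x : sch E') : pt E (mor g x) = pt E' x := by
  have h := K609.Points.ofPt_yon_map_comp g.hom.left E.obj.hom x
  rw [EtOver.w g] at h
  exact h.symm

theorem isPullback_prod (E₁ E₂ : EtOver X) :
    IsPullback ((yon S).map (EtOver.prodFst E₁ E₂).hom.left)
      ((yon S).map (EtOver.prodSnd E₁ E₂).hom.left) E₁.obj.hom E₂.obj.hom := by
  have h := (E₂.property.1.isPullback E₁.obj.hom).flip
  have e : (yon S).map (EtOver.prodSnd E₁ E₂).hom.left = E₂.property.1.fst E₁.obj.hom :=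
    Functor.relativelyRepresentable.map_fst' _ _
  rw [e]
  exact h

/-- Points of `E₁ ×_X E₂`. -/
theorem exists_prod (E₁ E₂ : EtOver X) (x₁ : sch E₁) (x₂ : sch E₂) (h : pt E₁ x₁ = pt E₂ x₂) :
    ∃ z : sch (EtOver.prodObj E₁ E₂), mor (EtOver.prodFst E₁ E₂) z = x₁ ∧
      mor (EtOver.prodSnd E₁ E₂) z = x₂ :=
  (K609.Points.ofPt_eq_ofPt_iff (isPullback_prod E₁ E₂) x₁ x₂).1 h

/-- An affine object mapping to two given objects, through given points over the same point. -/
theorem exists_affine_over (E₁ E₂ : EtOver X) (x₁ : sch E₁) (x₂ : sch E₂)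
    (h : pt E₁ x₁ = pt E₂ x₂) :
    ∃ (E : EtOver X) (a : E ⟶ E₁) (b : E ⟶ E₂) (z : sch E), IsAffine (sch E) ∧
      mor a z = x₁ ∧ mor b z = x₂ := by
  obtain ⟨z, h1, h2⟩ := exists_prod E₁ E₂ x₁ x₂ h
  obtain ⟨Y, g, y, -, hY, hy⟩ := exists_affine_of_mem (R := (⊤ : Sieve (EtOver.prodObj E₁ E₂)))
    (GrothendieckTopology.top_mem _ _) z
  refine ⟨Y, g ≫ EtOver.prodFst E₁ E₂, g ≫ EtOver.prodSnd E₁ E₂, y, hY, ?_, ?_⟩
  · rw [← h1, ← hy]
    rfl
  · rw [← h2, ← hy]
    rfl

/-- Families of objects whose images cover `|X|`. -/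
theorem coversTop_of_points {I : Type*} (E : I → EtOver X)
    (h : ∀ x : Points X, ∃ (i : I) (y : sch (E i)), pt (E i) y = x) :
    (etTop X).CoversTop E := by
  intro U
  rw [mem_etTop_iff]
  intro x
  obtain ⟨i, y, hy⟩ := h (pt U x)
  obtain ⟨z, h1, -⟩ := exists_prod U (E i) x y hy.symm
  exact ⟨_, EtOver.prodFst U (E i), z,
    (Sieve.mem_ofObjects_iff ..).mpr ⟨i, ⟨EtOver.prodSnd U (E i)⟩⟩, h1⟩

/-- A surjective chart covers. -/
theorem coversTop_of_surjective (E : EtOver X) (h : RepWith @Surjective E.obj.hom) :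
    (etTop X).CoversTop (fun _ : PUnit.{u + 2} => E) :=
  coversTop_of_points _ fun x => by
    obtain ⟨y, hy⟩ := K609.Points.surjective_ofPt_of_repWith_surjective h x
    exact ⟨⟨⟩, y, hy⟩

end K644.PtCover
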