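import Mathlib.AlgebraicGeometry.AffineSpace
import Mathlib.AlgebraicGeometry.Limits
import Mathlib.AlgebraicGeometry.Morphisms.UniversallyOpen
import Groth.Prelude.Def_AlgSpOX
import Groth.Agent.AlgSp.K644.Exact

/-!
# The small étale site of a space is a `QCSite`
-/

set_option autoImplicit false

universe u

open CategoryTheory CategoryTheory.Limits AlgebraicGeometry Opposite

namespace K644.EtSite

open AlgSp K644.Site K644.Psh K644.Exact

/-- Functions on a disjoint union. -/
theorem sections_sigma_bijective {ι : Type} (X : ι → Scheme.{u}) :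
    Function.Bijective (fun (x : Γ(∐ X, ⊤)) (i : ι) => (Sigma.ι X i).appTop.hom x) := by
  let E : ∀ Y : Scheme.{u}, (Y ⟶ Spec (CommRingCat.of
      (MvPolynomial PUnit.{u + 1} (ULift.{u} ℤ)))) ≃ (PUnit.{u + 1} → Γ(Y, ⊤)) :=
    fun Y => AffineSpace.toSpecMvPolyIntEquiv PUnit.{u + 1}
  have hE : ∀ {Y Z : Scheme.{u}} (f : Y ⟶ Z) (x : Γ(Z, ⊤)),
      f ≫ (E Z).symm (fun _ => x) = (E Y).symm (fun _ => f.appTop x) := by
    intro Y Z f x
    apply (E Y).injective
    funext i
    rw [Equiv.apply_symm_apply]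
    have := AffineSpace.toSpecMvPolyIntEquiv_comp PUnit.{u + 1} f ((E Z).symm (fun _ => x)) i
    refine this.trans ?_
    have h2 := congrFun ((E Z).apply_symm_apply (fun _ => x)) i
    exact congrArg f.appTop h2
  constructor
  · intro x y hxy
    have h1 : (E _).symm (fun _ => x) = (E _).symm (fun _ => y) := by
      apply Sigma.hom_ext
      intro i
      rw [hE, hE]
      congr 1
      funext _
      exact congrFun hxy i
    exact congrFun ((E _).symm.injective h1) PUnit.unit
  · intro v
    let f : ∐ X ⟶ _ := Sigma.desc (fun i => (E (X i)).symm (fun _ => v i))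
    refine ⟨E _ f PUnit.unit, ?_⟩
    funext i
    have h1 : f = (E _).symm (fun _ => E _ f PUnit.unit) := by
      rw [Equiv.eq_symm_apply]
    have h2 : Sigma.ι X i ≫ f = (E (X i)).symm (fun _ => v i) := Sigma.ι_desc _ _
    rw [h1, hE] at h2
    exact congrFun ((E _).symm.injective h2) PUnit.unit

variable {S : Scheme.{u}} {X : Sp S}

/-- The scheme of an object of the small étale site. -/
abbrev sch (E : EtOver X) : Scheme.{u} := E.obj.left.left

/-- The morphism of schemes of a morphism of the small étale site. -/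
abbrev mor {E' E : EtOver X} (g : E' ⟶ E) : sch E' ⟶ sch E := g.hom.left.left

instance (E' E : EtOver X) (g : E' ⟶ E) : Etale (mor g) := EtOver.etale_left g

theorem toScheme_obj (E : EtOver X) : (EtOver.toScheme X).obj E = sch E := rfl

theorem toScheme_map {E' E : EtOver X} (g : E' ⟶ E) : (EtOver.toScheme X).map g = mor g := rfl

/-- Covering sieves of the small étale site. -/
theorem mem_etTop_iff {E : EtOver X} (R : Sieve E) : R ∈ etTop X E ↔
    ∀ x : sch E, ∃ (Y : EtOver X) (g : Y ⟶ E) (y : sch Y), R g ∧ mor g y = x := by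
  constructor
  · intro hR x
    unfold etTop at hR
    rw [Precoverage.mem_toGrothendieck_iff_of_isStableUnderComposition] at hR
    obtain ⟨R', hR', hle⟩ := hR
    obtain ⟨ι, Y, g, hg⟩ := R'.exists_eq_ofArrows
    rw [hg] at hR'
    obtain ⟨i, y, hy⟩ := (ofArrows_mem_etPre_iff Y g).1 hR' x
    refine ⟨Y i, g i, y, hle _ _ ?_, hy⟩
    rw [hg]
    exact ⟨i⟩
  · intro h
    choose Y g y hg hy using h
    refine (etTop X).superset_covering ?_
      (ofArrows_mem_etTop Y g fun x => ⟨x, y x, hy x⟩)
    rintro Z a ⟨_, b, _, ⟨i⟩, rfl⟩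
    exact R.downward_closed (hg i) b

/-- An étale scheme over an object, as an object. -/
noncomputable def ofEt (E : EtOver X) {Z : Scheme.{u}} (f : Z ⟶ sch E) (hf : Etale f) :
    EtOver X :=
  EtOver.mk (U := Over.mk (f ≫ E.obj.left.hom))
    ((yon S).map (Over.homMk f : Over.mk (f ≫ E.obj.left.hom) ⟶ E.obj.left) ≫ E.obj.hom)
    ((repWith_isMultiplicative (S := S) @Etale).comp_mem _ _
      ((repWith_yon_map_iff _ _).2 hf) E.property)

theorem sch_ofEt (E : EtOver X) {Z : Scheme.{u}} (f : Z ⟶ sch E) (hf : Etale f) :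
    sch (ofEt E f hf) = Z := rfl

/-- The structure morphism. -/
noncomputable def ofEtHom (E : EtOver X) {Z : Scheme.{u}} (f : Z ⟶ sch E) (hf : Etale f) :
    ofEt E f hf ⟶ E :=
  EtOver.homMk (Over.homMk f) rfl

theorem mor_ofEtHom (E : EtOver X) {Z : Scheme.{u}} (f : Z ⟶ sch E) (hf : Etale f) :
    mor (ofEtHom E f hf) = f := rfl

/-- Morphisms to an étale scheme over an object. -/
noncomputable def toEt {E E' : EtOver X} (g : E' ⟶ E) {Z : Scheme.{u}} (f : Z ⟶ sch E)
    (hf : Etale f) (k : sch E' ⟶ Z) (hk : k ≫ f = mor g) : E' ⟶ ofEt E f hf :=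
  EtOver.homMk (Over.homMk k (by
      change k ≫ f ≫ E.obj.left.hom = E'.obj.left.hom
      rw [← Category.assoc, hk]
      exact Over.w g.hom.left)) (by
    have h1 : (Over.homMk k (by
        change k ≫ f ≫ E.obj.left.hom = E'.obj.left.hom
        rw [← Category.assoc, hk]
        exact Over.w g.hom.left) : E'.obj.left ⟶ Over.mk (f ≫ E.obj.left.hom)) ≫
        (Over.homMk f : Over.mk (f ≫ E.obj.left.hom) ⟶ E.obj.left) = g.hom.left := by
      ext
      exact hk
    change (yon S).map _ ≫ (yon S).map _ ≫ E.obj.hom = _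
    rw [← Category.assoc, ← Functor.map_comp]
    exact (congrArg (fun z => (yon S).map z ≫ E.obj.hom) h1).trans (EtOver.w g))

theorem mor_toEt {E E' : EtOver X} (g : E' ⟶ E) {Z : Scheme.{u}} (f : Z ⟶ sch E)
    (hf : Etale f) (k : sch E' ⟶ Z) (hk : k ≫ f = mor g) : mor (toEt g f hf k hk) = k := rfl

theorem hom_ext' {E E' : EtOver X} (g g' : E' ⟶ E) (h : mor g = mor g') : g = g' :=
  EtOver.hom_ext _ _ (Over.OverMorphism.ext h)

theorem toEt_comp {E E' : EtOver X} (g : E' ⟶ E) {Z : Scheme.{u}} (f : Z ⟶ sch E)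
    (hf : Etale f) (k : sch E' ⟶ Z) (hk : k ≫ f = mor g) :
    toEt g f hf k hk ≫ ofEtHom E f hf = g := hom_ext' _ _ hk

/-- Affine objects around a point of a covering. -/
theorem exists_affine_of_mem {E : EtOver X} {R : Sieve E} (hR : R ∈ etTop X E) (x : sch E) :
    ∃ (Y : EtOver X) (g : Y ⟶ E) (y : sch Y), R g ∧ IsAffine (sch Y) ∧ mor g y = x := by
  obtain ⟨Y, g, y, hg, hy⟩ := (mem_etTop_iff R).1 hR x
  obtain ⟨W, hW, hyW, -⟩ := exists_isAffineOpen_mem_and_subset (U := (⊤ : (sch Y).Opens)) (x := y)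
    trivial
  refine ⟨ofEt Y W.ι inferInstance, ofEtHom Y W.ι inferInstance ≫ g, ⟨y, hyW⟩,
    R.downward_closed hg _, hW, ?_⟩
  change mor g (W.ι ⟨y, hyW⟩) = x
  rw [← hy]
  rfl

instance qcSite : QCSite (etTop X) (EtOver.toScheme X) where
  exists_cover E hE R hR := by
    choose Y g y hg hY hy using fun x => exists_affine_of_mem hR x
    have hopen : ∀ x, IsOpen (Set.range (mor (g x))) := fun x =>
      (mor (g x)).isOpenMap.isOpen_range
    have hcov : (⋃ x : sch E, Set.range (mor (g x))) = Set.univ := by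
      ext x
      simp only [Set.mem_iUnion, Set.mem_univ, iff_true]
      exact ⟨x, y x, hy x⟩
    have hE' : IsAffine (sch E) := hE
    obtain ⟨t, ht⟩ := isCompact_univ.elim_finite_subcover
      (fun x : sch E => Set.range (mor (g x))) hopen hcov.ge
    -- index by a finite type in the lowest universe
    let n := t.card
    let e : Fin n ≃ t := t.equivFin.symm
    let Y' : Fin n → EtOver X := fun i => Y (e i)
    let g' : ∀ i, Y' i ⟶ E := fun i => g (e i)
    let f : (∐ fun i => sch (Y' i)) ⟶ sch E := Sigma.desc fun i => mor (g' i)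
    have hf : Etale f := IsZariskiLocalAtSource.sigmaDesc (P := @Etale) (fun i => inferInstance)
    let V := ofEt E f hf
    let s : ∀ i, Y' i ⟶ V := fun i => toEt (g' i) f hf (Sigma.ι (fun i => sch (Y' i)) i)
      (Sigma.ι_desc _ _)
    have hsurj : Function.Surjective f := by
      intro x
      obtain ⟨x', hx', z, hz⟩ : ∃ x' ∈ t, x ∈ Set.range (mor (g x')) := by
        have := ht (Set.mem_univ x)
        simpa using this
      obtain ⟨i, hi⟩ := e.surjective ⟨x', hx'⟩
      have key : ∀ w : t, w = ⟨x', hx'⟩ → x ∈ Set.range (mor (g w)) := by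
        rintro _ rfl
        exact ⟨z, hz⟩
      obtain ⟨z', hz'⟩ := key (e i) hi
      refine ⟨Sigma.ι (fun i => sch (Y' i)) i z', ?_⟩
      rw [← Scheme.Hom.comp_apply, Sigma.ι_desc]
      exact hz'
    have hVaff : IsAffine (∐ fun i => sch (Y' i)) := by
      have : ∀ i, IsAffine (sch (Y' i)) := fun i => hY _
      infer_instance
    refine ⟨V, ofEtHom E f hf, Fin n, Y', s, ⟨hVaff, hE, ?_, ⟨hsurj⟩, ?_⟩,
      ⟨inferInstance, hVaff, fun i => hY _, sections_sigma_bijective _, ?_⟩, fun i => ?_⟩
    · have : Etale f := hf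
      change Flat f
      infer_instance
    · rw [mem_etTop_iff]
      intro x
      obtain ⟨z, hz⟩ := hsurj x
      exact ⟨V, ofEtHom E f hf, z, ⟨𝟙 _, Category.id_comp _⟩, hz⟩
    · refine ofArrows_mem_etTop _ _ fun z => ?_
      obtain ⟨i, z', hz⟩ := (sigmaOpenCover (fun i => sch (Y' i))).exists_eq z
      exact ⟨i, z', hz⟩
    · rw [toEt_comp]
      exact hg _
  exists_aff E R hR := by
    rw [mem_etTop_iff]
    intro x
    obtain ⟨Y, g, y, -, hY, hy⟩ := exists_affine_of_mem (R := (⊤ : Sieve E))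
      (GrothendieckTopology.top_mem _ _) x
    exact ⟨Y, g, y, hR Y g hY, hy⟩

instance flatMaps : FlatMaps (EtOver.toScheme X) where
  flat g := by
    change Flat (mor g)
    infer_instance

/-- Sections of the structure sheaf are the functions. -/
noncomputable instance str : Str (EtOver.toScheme X) (OEtRing X).obj where
  ρ _ := ULift.ringEquiv.symm
  nat _ _ := rfl

end K644.EtSite
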