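import Mathlib.AlgebraicGeometry.Morphisms.Flat
import Mathlib.AlgebraicGeometry.Morphisms.Affine
import Mathlib.CategoryTheory.Sites.LocallySurjective
import Mathlib.CategoryTheory.Sites.Over
import Mathlib.CategoryTheory.Sites.EffectiveEpimorphic
import Mathlib.LinearAlgebra.TensorProduct.Pi
import Groth.Agent.Etbase.FFExact

/-!
# Sites over schemes on which quasi-coherent modules are determined by affine objects

`AffCov J T f`, `Decomp J T Y s`, `QCSite J T`.
-/

set_option autoImplicit false

universe w v d u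

open CategoryTheory CategoryTheory.Limits AlgebraicGeometry Opposite TensorProduct

namespace K644.Site

open Groth.Agent.Etbase.FFExact

section algebra

/-- Finite products: base changes along the factors of a finite product decomposition of the ring. -/
theorem pi_bijective {B : Type*} [CommRing B] {ι : Type*} [Finite ι] {C : ι → Type*}
    [∀ i, CommRing (C i)] (φ : ∀ i, B →+* C i)
    (hφ : Function.Bijective (fun (b : B) (i : ι) => φ i b)) {N : Type*} [AddCommGroup N]
    [Module B N] {N' : ι → Type*} [∀ i, AddCommGroup (N' i)] [∀ i, Module (C i) (N' i)]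
    (ψ : ∀ i, N →+ N' i) (h : ∀ i, IsBC (φ i) (ψ i)) :
    Function.Bijective (fun (n : N) (i : ι) => ψ i n) := by
  classical
  let _ := Fintype.ofFinite ι
  choose h1 h2 using h
  -- idempotents
  have he : ∀ i, ∃ e : B, ∀ j, φ j e = if j = i then 1 else 0 := fun i => by
    obtain ⟨e, he⟩ := hφ.2 (fun j => if j = i then 1 else 0)
    exact ⟨e, fun j => congrFun he j⟩
  choose e he using he
  have hsum : ∑ i, e i = 1 := by
    apply hφ.1
    funext j
    change φ j _ = φ j _
    rw [map_sum, map_one, Finset.sum_congr rfl (fun i _ => he i j)]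
    simp
  have hsurjφ : ∀ i, Function.Surjective (φ i) := fun i c => by
    obtain ⟨b, hb⟩ := hφ.2 (fun j => if h : j = i then h ▸ c else 0)
    refine ⟨b, ?_⟩
    have := congrFun hb i
    simpa using this
  constructor
  · change Function.Injective (AddMonoidHom.mk' (fun (n : N) (i : ι) => ψ i n)
      (fun a b => funext fun i => map_add _ _ _))
    rw [injective_iff_map_eq_zero]
    intro n hn
    have hn' : ∀ i, ψ i n = 0 := fun i => congrFun hn i
    have key : ∀ i, e i • n = 0 := by
      intro i
      let _ : Algebra B (C i) := (φ i).toAlgebra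
      let _ : Module B (N' i) := Module.compHom (N' i) (φ i)
      have : IsScalarTower B (C i) (N' i) := ⟨fun a b m => by
        change (φ i a * b) • m = φ i a • b • m
        rw [mul_smul]⟩
      -- the map `c ⊗ n ↦ e i • (b • n)` for a lift `b` of `c`
      have hk : ∀ b : B, φ i b = 0 → ∀ n : N, e i • b • n = 0 := by
        intro b hb n
        have : e i * b = 0 := by
          apply hφ.1
          funext j
          change φ j (e i * b) = φ j 0
          rw [map_mul, he, map_zero]
          split_ifs with hji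
          · subst hji
            rw [hb, mul_zero]
          · rw [zero_mul]
        rw [← mul_smul, this, zero_smul]
      -- the quotient `N / (1 - e i) N` is a module over `C i`
      let K : Submodule B N := LinearMap.ker (LinearMap.lsmul B N (e i))
      have hKK : ∀ b : B, φ i b = 0 → ∀ q : N ⧸ K, b • q = 0 := by
        intro b hb q
        obtain ⟨q, rfl⟩ := Submodule.Quotient.mk_surjective K q
        rw [← Submodule.Quotient.mk_smul, Submodule.Quotient.mk_eq_zero]
        exact hk b hb q
      let s : C i → B := Function.surjInv (hsurjφ i)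
      have hs : ∀ c, φ i (s c) = c := Function.surjInv_eq (hsurjφ i)
      have hss : ∀ (b b' : B), φ i b = φ i b' → ∀ q : N ⧸ K, b • q = b' • q := by
        intro b b' hb q
        rw [← sub_eq_zero, ← sub_smul]
        exact hKK _ (by rw [map_sub, hb, sub_self]) q
      let _ : Module (C i) (N ⧸ K) :=
        { smul := fun c q => s c • q
          one_smul := fun q => by
            change s 1 • q = q
            rw [hss (s 1) 1 (by rw [hs, map_one]), one_smul]
          mul_smul := fun c c' q => by
            change s (c * c') • q = s c • s c' • q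
            rw [hss (s (c * c')) (s c * s c') (by rw [hs, map_mul, hs, hs]), mul_smul]
          smul_zero := fun c => by
            change s c • (0 : N ⧸ K) = 0
            exact smul_zero _
          smul_add := fun c q q' => by
            change s c • (q + q') = s c • q + s c • q'
            exact smul_add _ _ _
          add_smul := fun c c' q => by
            change s (c + c') • q = s c • q + s c' • q
            rw [hss (s (c + c')) (s c + s c') (by rw [hs, map_add, hs, hs]), add_smul]
          zero_smul := fun q => by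
            change s 0 • q = 0
            rw [hss (s 0) 0 (by rw [hs, map_zero]), zero_smul] }
      have hst : ∀ (b : B) (q : N ⧸ K), (φ i b) • q = b • q := fun b q =>
        hss (s (φ i b)) b (hs _) q
      have : IsScalarTower B (C i) (N ⧸ K) := ⟨fun b c q => by
        obtain ⟨b', rfl⟩ := hsurjφ i c
        change (φ i b * φ i b') • q = b • φ i b' • q
        rw [← map_mul, hst, hst, mul_smul]⟩
      let l : N' i →ₗ[C i] N ⧸ K := (h2 i).lift (Submodule.mkQ K)
      have hl : l (ψ i n) = Submodule.Quotient.mk n := (h2 i).lift_eq (Submodule.mkQ K) n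
      rw [hn', map_zero] at hl
      have := (Submodule.Quotient.mk_eq_zero K).1 hl.symm
      exact this
    rw [← one_smul B n, ← hsum, Finset.sum_smul]
    exact Finset.sum_eq_zero fun i _ => key i
  · intro x
    have hsurj : ∀ i, Function.Surjective (ψ i) := by
      intro i
      let _ : Algebra B (C i) := (φ i).toAlgebra
      let _ : Module B (N' i) := Module.compHom (N' i) (φ i)
      have : IsScalarTower B (C i) (N' i) := ⟨fun a b m => by
        change (φ i a * b) • m = φ i a • b • m
        rw [mul_smul]⟩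
      intro y
      induction y using (h2 i).inductionOn with
      | zero => exact ⟨0, map_zero _⟩
      | tmul m => exact ⟨m, rfl⟩
      | smul c y ih =>
        obtain ⟨m, rfl⟩ := ih
        obtain ⟨b, rfl⟩ := hsurjφ i c
        exact ⟨b • m, h1 i b m⟩
      | add a b ha hb =>
        obtain ⟨m, rfl⟩ := ha
        obtain ⟨m', rfl⟩ := hb
        exact ⟨m + m', map_add _ _ _⟩
    choose n hn using fun i => hsurj i (x i)
    refine ⟨∑ i, e i • n i, ?_⟩
    funext j
    change ψ j _ = _
    rw [map_sum, Finset.sum_congr rfl (fun i _ => (h1 j (e i) (n i)).trans (by rw [he]))]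
    simp [hn]

/-- Base change along a faithfully flat ring homomorphism is injective. -/
theorem IsBC.injective {A B : Type*} [CommRing A] [CommRing B] {φ : A →+* B}
    (hff : φ.FaithfullyFlat) {M M' : Type*} [AddCommGroup M] [AddCommGroup M'] [Module A M]
    [Module B M'] {ψ : M →+ M'} (h : IsBC φ ψ) : Function.Injective ψ := by
  let := φ.toAlgebra
  have : Module.FaithfullyFlat A B := hff
  let : Module A M' := Module.compHom M' φ
  have : IsScalarTower A B M' := ⟨fun a b m => by
      change (φ a * b) • m = φ a • b • m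
      rw [mul_smul]⟩
  obtain ⟨h1, h2⟩ := h
  rw [injective_iff_map_eq_zero]
  intro m hm
  have h3 : h2.equiv ((1 : B) ⊗ₜ[A] m) = 0 := by
    rw [h2.equiv_tmul, one_smul]
    exact hm
  have h4 : (1 : B) ⊗ₜ[A] m = 0 := h2.equiv.injective (h3.trans (map_zero _).symm)
  exact (Module.FaithfullyFlat.one_tmul_eq_zero_iff _ _ m).1 h4

end algebra

variable {D : Type d} [Category.{v} D] (J : GrothendieckTopology D) (T : D ⥤ Scheme.{u})

/-- A covering of an affine object by one affine object. -/
structure AffCov {V U : D} (f : V ⟶ U) : Prop where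
  src : IsAffine (T.obj V)
  tgt : IsAffine (T.obj U)
  flat : Flat (T.map f)
  surj : Surjective (T.map f)
  mem : Sieve.generateSingleton f ∈ J U

/-- A finite decomposition of an affine object. -/
structure Decomp {V : D} {ι : Type} (Y : ι → D) (s : ∀ i, Y i ⟶ V) : Prop where
  fin : Finite ι
  tgt : IsAffine (T.obj V)
  aff : ∀ i, IsAffine (T.obj (Y i))
  bij : Function.Bijective (fun (a : Γ(T.obj V, ⊤)) (i : ι) => (T.map (s i)).appTop.hom a)
  mem : Sieve.ofArrows Y s ∈ J V

/-- The sites we consider: coverings of affine objects can be refined by one affine covering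
together with a decomposition, and affine objects are dense. -/
class QCSite : Prop where
  exists_cover : ∀ (U : D), IsAffine (T.obj U) → ∀ R ∈ J U, ∃ (V : D) (f : V ⟶ U) (ι : Type)
    (Y : ι → D) (s : ∀ i, Y i ⟶ V), AffCov J T f ∧ Decomp J T Y s ∧ ∀ i, R (s i ≫ f)
  exists_aff : ∀ (U : D) (R : Sieve U), (∀ (V : D) (g : V ⟶ U), IsAffine (T.obj V) → R g) →
    R ∈ J U

variable {J T}

theorem AffCov.ff {V U : D} {f : V ⟶ U} (hf : AffCov J T f) :
    (T.map f).appTop.hom.FaithfullyFlat := by
  have := hf.src
  have := hf.tgt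
  rw [← Flat.flat_and_surjective_iff_faithfullyFlat_of_isAffine]
  exact ⟨hf.flat, hf.surj⟩

section pb

variable [PreservesLimitsOfShape WalkingCospan T]

theorem isPullback_map {P U V W : D} {a : P ⟶ V} {b : P ⟶ W} {f : V ⟶ U} {g : W ⟶ U}
    (sq : IsPullback a b f g) : IsPullback (T.map a) (T.map b) (T.map f) (T.map g) :=
  sq.map T

theorem isAffine_of_isPullback {P U V W : D} {a : P ⟶ V} {b : P ⟶ W} {f : V ⟶ U} {g : W ⟶ U}
    (sq : IsPullback a b f g) (hU : IsAffine (T.obj U)) (hV : IsAffine (T.obj V))
    (hW : IsAffine (T.obj W)) : IsAffine (T.obj P) :=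
  IsAffine.of_isIso (isPullback_map (T := T) sq).isoPullback.hom

/-- Base change along pullback squares of affine objects, in the form used for modules. -/
theorem IsBC.of_isPullback {P U V W : D} {a : P ⟶ V} {b : P ⟶ W} {f : V ⟶ U} {g : W ⟶ U}
    (sq : IsPullback a b f g) (hU : IsAffine (T.obj U)) (hV : IsAffine (T.obj V))
    (hW : IsAffine (T.obj W)) {M M' : Type*} [AddCommGroup M] [AddCommGroup M']
    [Module Γ(T.obj W, ⊤) M] [Module Γ(T.obj P, ⊤) M'] [Module Γ(T.obj U, ⊤) M]
    [Module Γ(T.obj V, ⊤) M'] (hM : ∀ (r : Γ(T.obj U, ⊤)) (m : M), r • m = (T.map g).appTop.hom r • m)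
    (hM' : ∀ (r : Γ(T.obj V, ⊤)) (m : M'), r • m = (T.map a).appTop.hom r • m) (ψ : M →+ M')
    (h : IsBC (T.map b).appTop.hom ψ) : IsBC (T.map f).appTop.hom ψ := by
  have := isAffine_of_isPullback sq hU hV hW
  have hpo := isPushout_appTop_of_isPullback (isPullback_map (T := T) sq)
  have comm : (T.map b).appTop.hom.comp (T.map g).appTop.hom =
      (T.map a).appTop.hom.comp (T.map f).appTop.hom :=
    (congrArg (fun z => z.hom) hpo.w).symm
  refine IsBC.of_isPushout (T.map g).appTop.hom (T.map f).appTop.hom
    (T.map b).appTop.hom (T.map a).appTop.hom comm ?_ _ hM hM' h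
  let := (T.map g).appTop.hom.toAlgebra
  let := (T.map f).appTop.hom.toAlgebra
  let := (T.map b).appTop.hom.toAlgebra
  let := (T.map a).appTop.hom.toAlgebra
  let := ((T.map b).appTop.hom.comp (T.map g).appTop.hom).toAlgebra
  have : IsScalarTower Γ(T.obj U, ⊤) Γ(T.obj W, ⊤) Γ(T.obj P, ⊤) :=
    IsScalarTower.of_algebraMap_eq' rfl
  have : IsScalarTower Γ(T.obj U, ⊤) Γ(T.obj V, ⊤) Γ(T.obj P, ⊤) :=
    IsScalarTower.of_algebraMap_eq' comm
  exact ((CommRingCat.isPushout_iff_isPushout (R := Γ(T.obj U, ⊤))
      (R' := Γ(T.obj V, ⊤)) (S := Γ(T.obj W, ⊤))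
      (S' := Γ(T.obj P, ⊤))).1 hpo)

/-- The ring itself is a base change. -/
theorem IsBC.self {A B : Type*} [CommRing A] [CommRing B] (φ : A →+* B) :
    IsBC φ (φ : A →+ B) := by
  refine ⟨fun a m => map_mul φ a m, ?_⟩
  let := φ.toAlgebra
  exact IsBaseChange.linearMap A B

theorem AffCov.of_isPullback {P U V W : D} {a : P ⟶ V} {b : P ⟶ W} {f : V ⟶ U} {g : W ⟶ U}
    (sq : IsPullback a b f g) (hf : AffCov J T f) (hW : IsAffine (T.obj W)) : AffCov J T b where
  src := isAffine_of_isPullback sq hf.tgt hf.src hW
  tgt := hW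
  flat := MorphismProperty.of_isPullback (P := @Flat) (isPullback_map (T := T) sq) hf.flat
  surj := MorphismProperty.of_isPullback (P := @Surjective) (isPullback_map (T := T) sq) hf.surj
  mem := by
    refine J.superset_covering ?_ (J.pullback_stable g hf.mem)
    rintro Z h ⟨e, he⟩
    exact ⟨sq.lift e h he, sq.lift_snd _ _ _⟩

theorem Decomp.of_isPullback {W V : D} {ι : Type} {Y P : ι → D} {s : ∀ i, Y i ⟶ V} {g : W ⟶ V}
    {a : ∀ i, P i ⟶ Y i} {b : ∀ i, P i ⟶ W} (sq : ∀ i, IsPullback (a i) (b i) (s i) g)
    (hs : Decomp J T Y s) (hW : IsAffine (T.obj W)) : Decomp J T P b where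
  fin := hs.fin
  tgt := hW
  aff i := isAffine_of_isPullback (sq i) hs.tgt (hs.aff i) hW
  bij := by
    have := hs.fin
    let _ : Module Γ(T.obj V, ⊤) Γ(T.obj W, ⊤) := Module.compHom _ (T.map g).appTop.hom
    let _ : ∀ i, Module Γ(T.obj (Y i), ⊤) Γ(T.obj (P i), ⊤) := fun i =>
      Module.compHom _ (T.map (a i)).appTop.hom
    exact pi_bijective (fun i => (T.map (s i)).appTop.hom) hs.bij
      (fun i => ((T.map (b i)).appTop.hom : Γ(T.obj W, ⊤) →+ Γ(T.obj (P i), ⊤)))
      (fun i => IsBC.of_isPullback (sq i) hs.tgt (hs.aff i) hW (fun _ _ => rfl) (fun _ _ => rfl) _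
        (IsBC.self _))
  mem := by
    refine J.superset_covering ?_ (J.pullback_stable g hs.mem)
    rintro Z h ⟨_, e, _, ⟨i⟩, he⟩
    exact ⟨_, (sq i).lift e h he, _, ⟨i⟩, (sq i).lift_snd _ _ _⟩

end pb

section gluing

/-- The three conditions on a presheaf of abelian groups which say that it behaves like a sheaf
on affine objects. -/
structure AffSheaf (J : GrothendieckTopology D) (T : D ⥤ Scheme.{u})
    (P : Dᵒᵖ ⥤ AddCommGrpCat.{w}) : Prop where
  inj : ∀ {V U : D} (f : V ⟶ U), AffCov J T f → Function.Injective (P.map f.op)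
  glue : ∀ {V U W : D} (f : V ⟶ U) (a b : W ⟶ V), AffCov J T f → IsPullback a b f f →
    ∀ x : P.obj (op V), P.map a.op x = P.map b.op x → ∃ y : P.obj (op U), P.map f.op y = x
  dec : ∀ {V : D} {ι : Type} (Y : ι → D) (s : ∀ i, Y i ⟶ V), Decomp J T Y s →
    Function.Bijective (fun (x : P.obj (op V)) (i : ι) => P.map (s i).op x)

theorem map_comp_apply {P : Dᵒᵖ ⥤ AddCommGrpCat.{w}} {U V W : D} (f : V ⟶ U) (g : W ⟶ V)
    (x : P.obj (op U)) : P.map (g ≫ f).op x = P.map g.op (P.map f.op x) := by
  rw [op_comp, P.map_comp]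
  rfl

theorem naturality_apply {P F : Dᵒᵖ ⥤ AddCommGrpCat.{w}} (φ : P ⟶ F) {U V : D} (f : V ⟶ U)
    (x : P.obj (op U)) : φ.app (op V) (P.map f.op x) = F.map f.op (φ.app (op U) x) :=
  ConcreteCategory.congr_hom (φ.naturality f.op) x

theorem sep_of_isSheaf {F : Dᵒᵖ ⥤ AddCommGrpCat.{w}} (hF : Presheaf.IsSheaf J F) {U : D}
    {R : Sieve U} (hR : R ∈ J U) (x y : F.obj (op U))
    (h : ∀ (V : D) (f : V ⟶ U), R f → F.map f.op x = F.map f.op y) : x = y := by
  have hI : Presieve.IsSheaf J (F ⋙ CategoryTheory.forget AddCommGrpCat) :=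
    (isSheaf_iff_isSheaf_of_type _ _).1 (Presheaf.isSheaf_comp_of_isSheaf J F
      (CategoryTheory.forget _) hF)
  exact (hI R hR).isSeparatedFor.ext (fun V f hf => h V f hf)

variable [HasPullbacks D]

/-- A morphism from a presheaf which is a sheaf on affine objects to a sheaf which is locally
bijective is bijective on affine objects. -/
theorem bijective_app [PreservesLimitsOfShape WalkingCospan T] [QCSite J T] {P F : Dᵒᵖ ⥤ AddCommGrpCat.{w}} (hP : AffSheaf J T P)
    (hF : Presheaf.IsSheaf J F) (φ : P ⟶ F) (hinj : Presheaf.IsLocallyInjective J φ)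
    (hsurj : Presheaf.IsLocallySurjective J φ) (U : D) (hU : IsAffine (T.obj U)) :
    Function.Bijective (φ.app (op U)) := by
  have inj : ∀ U : D, IsAffine (T.obj U) → Function.Injective (φ.app (op U)) := by
    intro U hU x y hxy
    obtain ⟨V, f, ι, Y, s, hf, hs, hR⟩ := QCSite.exists_cover (J := J) (T := T) U hU _
      (Presheaf.equalizerSieve_mem J φ x y hxy)
    apply hP.inj f hf
    apply (hP.dec Y s hs).1
    funext i
    have := hR i
    change P.map (s i).op (P.map f.op x) = P.map (s i).op (P.map f.op y)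
    rw [← map_comp_apply, ← map_comp_apply]
    exact this
  refine ⟨inj U hU, fun t => ?_⟩
  obtain ⟨V, f, ι, Y, s, hf, hs, hR⟩ := QCSite.exists_cover (J := J) (T := T) U hU _
    (Presheaf.imageSieve_mem J φ t)
  choose z hz using hR
  obtain ⟨x, hx⟩ := (hP.dec Y s hs).2 z
  have hx' : φ.app (op V) x = F.map f.op t := by
    refine sep_of_isSheaf hF hs.mem _ _ ?_
    rintro Z h ⟨_, e, _, ⟨i⟩, rfl⟩
    have h1 : P.map (s i).op x = z i := congrFun hx i
    rw [map_comp_apply, map_comp_apply, ← naturality_apply, h1, hz i, map_comp_apply]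
  have sq := IsPullback.of_hasPullback f f
  have hW : IsAffine (T.obj (pullback f f)) := isAffine_of_isPullback sq hf.tgt hf.src hf.src
  obtain ⟨y, hy⟩ := hP.glue f _ _ hf sq x (by
    apply inj _ hW
    rw [naturality_apply, naturality_apply, hx', ← map_comp_apply, ← map_comp_apply,
      pullback.condition])
  refine ⟨y, sep_of_isSheaf hF hf.mem _ _ ?_⟩
  rintro Z h ⟨e, rfl⟩
  rw [map_comp_apply, map_comp_apply, ← naturality_apply φ f y, hy, hx']

end gluing

end K644.Site
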