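import Groth.Agent.AlgSp.K644.Cech
import Groth.Agent.AlgSp.K644.Site
import Mathlib.AlgebraicGeometry.Morphisms.ClosedImmersion

/-!
# Cartan's criterion on a `QCSite`
-/

set_option autoImplicit false

universe w v d u

open CategoryTheory CategoryTheory.Limits AlgebraicGeometry Opposite Simplicial

namespace K644.Cartan

open Groth.Agent.Etbase.CechCartan Groth.Agent.Etbase.FFExact K644.Site K644.Psh K644.Cech
  Groth.Agent.Etbase.SieveCartan

variable {D : Type d} [Category.{v} D] (J : GrothendieckTopology D) (T : D ⥤ Scheme.{u})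

/-- Decompositions are disjoint unions. -/
class DecSite : Prop where
  mono : ∀ {V : D} {ι : Type} {Y : ι → D} {s : ∀ i, Y i ⟶ V}, Decomp J T Y s → ∀ i, Mono (s i)
  empty : ∀ Z : D, IsEmpty (T.obj Z) → ⊥ ∈ J Z

variable {J T}

theorem isEmpty_of_one_eq_zero {Z : Scheme.{u}} (h : (1 : Γ(Z, ⊤)) = 0) : IsEmpty Z := by
  refine ⟨fun z => ?_⟩
  have h1 := congrArg (Z.presheaf.germ ⊤ z trivial).hom h
  rw [map_one, map_zero] at h1
  exact one_ne_zero h1

theorem mono_map_of_decomp {V : D} {ι : Type} {Y : ι → D} {s : ∀ i, Y i ⟶ V}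
    (hs : Decomp J T Y s) (i : ι) : Mono (T.map (s i)) := by
  classical
  have := hs.tgt
  have := hs.aff i
  have hsurj : Function.Surjective (T.map (s i)).appTop.hom := by
    intro c
    obtain ⟨b, hb⟩ := hs.bij.2 (fun j => if h : j = i then h ▸ c else 0)
    refine ⟨b, ?_⟩
    have := congrFun hb i
    simpa using this
  have : IsClosedImmersion (T.map (s i)) := IsClosedImmersion.of_surjective_of_isAffine _ hsurj
  infer_instance

/-- In a decomposition the pieces are disjoint. -/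
theorem isEmpty_of_ne {V : D} {ι : Type} {Y : ι → D} {s : ∀ i, Y i ⟶ V}
    (hs : Decomp J T Y s) {i j : ι} (hij : i ≠ j) {Z : D} (a : Z ⟶ Y i) (b : Z ⟶ Y j)
    (hab : a ≫ s i = b ≫ s j) : IsEmpty (T.obj Z) := by
  classical
  obtain ⟨e, he⟩ := hs.bij.2 (fun k => if k = i then 1 else 0)
  have h1 : (T.map (s i)).appTop.hom e = 1 := by
    have := congrFun he i
    simpa using this
  have h2 : (T.map (s j)).appTop.hom e = 0 := by
    have := congrFun he j
    simpa [hij.symm] using this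
  have h3 : (T.map (a ≫ s i)).appTop.hom e = (T.map (b ≫ s j)).appTop.hom e := by rw [hab]
  rw [T.map_comp, T.map_comp, Scheme.Hom.comp_appTop, Scheme.Hom.comp_appTop,
    CommRingCat.hom_comp, CommRingCat.hom_comp, RingHom.comp_apply, RingHom.comp_apply, h1, h2,
    map_one, map_zero] at h3
  exact isEmpty_of_one_eq_zero h3

theorem glue_decomp [DecSite J T] {I : Dᵒᵖ ⥤ AddCommGrpCat.{w}} (hI : Presheaf.IsSheaf J I)
    {V : D} {ι : Type} {Y : ι → D} {s : ∀ i, Y i ⟶ V}
    (hs : Decomp J T Y s) (t : ∀ i, I.obj (op (Y i))) :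
    ∃ t' : I.obj (op V), ∀ i, I.map (s i).op t' = t i := by
  have hI' : Presieve.IsSheaf J (I ⋙ CategoryTheory.forget AddCommGrpCat) :=
    (isSheaf_iff_isSheaf_of_type _ _).1 (Presheaf.isSheaf_comp_of_isSheaf J I
      (CategoryTheory.forget _) hI)
  have h1 := (Presieve.isSheafFor_iff_generate _).2 (hI' _ hs.mem)
  rw [Presieve.isSheafFor_arrows_iff] at h1
  obtain ⟨x, hx, -⟩ := h1 t (fun i j Z a b hab => by
    by_cases hij : i = j
    · subst hij
      have := DecSite.mono hs i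
      rw [(cancel_mono (s i)).1 hab]
    · have hZ := DecSite.empty (J := J) Z (isEmpty_of_ne hs hij a b hab)
      refine (hI' ⊥ hZ).isSeparatedFor.ext ?_
      rintro W g ⟨⟩)
  exact ⟨x, hx⟩

/-- Lifting along epimorphisms over one affine covering. -/
theorem exists_lift [QCSite J T] [DecSite J T] {I Q : Sheaf J AddCommGrpCat.{w}} (q : I ⟶ Q)
    (hls : Sheaf.IsLocallySurjective q) (U : D) (hU : IsAffine (T.obj U)) (s : Q.obj.obj (op U)) :
    ∃ (V : D) (f : V ⟶ U), AffCov J T f ∧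
      ∃ t : I.obj.obj (op V), q.hom.app (op V) t = Q.obj.map f.op s := by
  have hR : Presheaf.imageSieve q.hom s ∈ J U := Presheaf.imageSieve_mem J q.hom s
  obtain ⟨V, f, ι, Y, k, h1, h2, h3⟩ := QCSite.exists_cover (J := J) (T := T) U hU _ hR
  choose t ht using h3
  obtain ⟨t', ht'⟩ := glue_decomp I.property h2 t
  refine ⟨V, f, h1, t', ?_⟩
  refine sep_of_isSheaf Q.property h2.mem _ _ ?_
  rintro Z h ⟨_, e, _, ⟨i⟩, rfl⟩
  have e1 : Q.obj.map (k i).op (q.hom.app (op V) t') = Q.obj.map (k i).op (Q.obj.map f.op s) := by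
    rw [← naturality_apply, ht', ht i, map_comp_apply]
  rw [map_comp_apply, map_comp_apply, e1]

section cartan

variable {C : Type d} [Category.{v} C] [HasPullbacks C] {J : GrothendieckTopology C}
  [HasSheafify J AddCommGrpCat.{max v w}]

/-- Surjectivity on sections over a class of objects, for extensions by a Čech acyclic sheaf. -/
theorem surj_step (B : C → Prop) (Cov : ∀ ⦃V U : C⦄, (V ⟶ U) → Prop)
    (hJ : ∀ ⦃V U : C⦄ (f : V ⟶ U), Cov f → Sieve.generateSingleton f ∈ J U)
    {F I Q : Sheaf J AddCommGrpCat.{max v w}}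
    (j : F ⟶ I) (q : I ⟶ Q) (wz : j ≫ q = 0) (hT : (ShortComplex.mk j q wz).ShortExact)
    (hlift : ∀ (U : C), B U → ∀ (s : Q.obj.obj (op U)), ∃ (V : C) (f : V ⟶ U), Cov f ∧
      ∃ t : I.obj.obj (op V), q.hom.app (op V) t = Q.obj.map f.op s)
    (hF : CechAcyc Cov F.obj) (U : C) (hU : B U) : Function.Surjective (q.hom.app (op U)) := by
  intro s
  obtain ⟨V, f, hf, t, ht⟩ := hlift U hU s
  let E := (Arrow.mk f).cechNerve
  let t₀ : I.obj.obj (op (E _⦋0⦌)) := I.obj.map (pr f 0 0).op t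
  have hqt₀ : q.hom.app _ t₀ = Q.obj.map (bs f 0).op s := by
    have h1 : q.hom.app _ (I.obj.map (pr f 0 0).op t) =
        Q.obj.map (pr f 0 0).op (q.hom.app _ t) :=
      ConcreteCategory.congr_hom (q.hom.naturality (pr f 0 0).op) t
    rw [h1, ht, ← pr_comp f 0 0, op_comp, Functor.map_comp]
    rfl
  have h2 : q.hom.app _ (dC I.obj E 0 t₀) = 0 := by
    rw [dC_naturality_apply, hqt₀, dC_apply, Fin.sum_univ_two]
    simp only [Fin.val_zero, pow_zero, one_smul, Fin.val_one, pow_one, neg_smul]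
    rw [← sub_eq_add_neg, sub_eq_zero]
    have h3 : ∀ i, Q.obj.map (E.δ i).op (Q.obj.map (bs f 0).op s) =
        Q.obj.map (bs f 1).op s := by
      intro i
      rw [← δ_bs f 0 i, op_comp, Functor.map_comp]
      rfl
    rw [h3, h3]
  obtain ⟨z, hz⟩ := (ses_eval j q wz hT (E _⦋1⦌)).2.1 _ h2
  have hz0 : dC F.obj E 1 z = 0 := by
    apply (ses_eval j q wz hT (E _⦋2⦌)).1
    rw [dC_naturality_apply, hz, map_zero]
    exact dC_dC_apply I.obj E 0 t₀
  obtain ⟨z', hz'⟩ := hF f hf 0 z hz0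
  have h4 : dC I.obj E 0 (t₀ - j.hom.app _ z') = 0 := by
    rw [map_sub, ← dC_naturality_apply, hz', hz, sub_self]
  obtain ⟨t', ht'⟩ := sheaf_glue I f (hJ f hf) _ h4
  refine ⟨t', sheaf_sep Q f (hJ f hf) ?_⟩
  let e : V ⟶ (Arrow.mk f).cechNerve _⦋0⦌ := mkE f 0 f (fun _ => 𝟙 _) (by simp)
  have he : e ≫ bs f 0 = f := by simp [e]
  have h5 : Q.obj.map (bs f 0).op (q.hom.app _ t') = Q.obj.map (bs f 0).op s := by
    have h6 : Q.obj.map (bs f 0).op (q.hom.app _ t') = q.hom.app _ (I.obj.map (bs f 0).op t') :=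
      (ConcreteCategory.congr_hom (q.hom.naturality (bs f 0).op) t').symm
    rw [h6, ht', map_sub, hqt₀, (ses_eval j q wz hT (E _⦋0⦌)).2.2, sub_zero]
  rw [← he, op_comp, Functor.map_comp]
  exact congrArg (Q.obj.map e.op) h5

end cartan

section main

variable {D : Type d} [Category.{v} D] {J : GrothendieckTopology D} {T : D ⥤ Scheme.{u}}
  [HasPullbacks D] [PreservesLimitsOfShape WalkingCospan T] [QCSite J T] [DecSite J T]
  [HasSheafify J AddCommGrpCat.{max v w}]

/-- The abelian sheaves all of whose Čech complexes for affine coverings are exact in positive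
degrees. -/
def AffAcyc (T : D ⥤ Scheme.{u}) (F : Sheaf J AddCommGrpCat.{max v w}) : Prop :=
  CechAcyc (fun ⦃_ _⦄ f => AffCov J T f) F.obj

variable [J.WEqualsLocallyBijective AddCommGrpCat.{max v w}]

/-- Sections over affine objects, for extensions by acyclic sheaves. -/
theorem surjective_of_affAcyc {F I Q : Sheaf J AddCommGrpCat.{max v w}}
    (j : F ⟶ I) (q : I ⟶ Q) (wz : j ≫ q = 0) (hT : (ShortComplex.mk j q wz).ShortExact)
    (hF : AffAcyc T F) (U : D) (hU : IsAffine (T.obj U)) :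
    Function.Surjective (q.hom.app (op U)) := by
  have hepi : Epi q := hT.epi_g
  have hls : Sheaf.IsLocallySurjective q := (Sheaf.isLocallySurjective_iff_epi' _ _).2 hepi
  exact surj_step.{w} (fun U => IsAffine (T.obj U)) (fun ⦃_ _⦄ f => AffCov J T f)
    (fun _ _ f hf => hf.mem) j q wz hT (fun U hU s => exists_lift q hls U hU s) hF U hU

theorem affAcyc_step {F I Q : Sheaf J AddCommGrpCat.{max v w}}
    (j : F ⟶ I) (q : I ⟶ Q) (wz : j ≫ q = 0) (hT : (ShortComplex.mk j q wz).ShortExact)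
    [Injective I] (hF : AffAcyc T F) : AffAcyc T Q := by
  have hepi : Epi q := hT.epi_g
  have hls : Sheaf.IsLocallySurjective q := (Sheaf.isLocallySurjective_iff_epi' _ _).2 hepi
  exact (cartan_step.{w} (fun U => IsAffine (T.obj U)) (fun ⦃_ _⦄ f => AffCov J T f)
    (fun _ _ f hf n => isAffine_cechNerve f hf.src hf.tgt n)
    (fun _ _ f hf => hf.mem) j q wz hT (fun U hU s => exists_lift q hls U hU s) hF).2

theorem affAcyc_of_isQC {R : Sheaf J RingCat.{max v w}} [Str T R.obj]
    {M : SheafOfModules.{max v w} R} (h : IsQC T M.val) :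
    AffAcyc.{w} T ((SheafOfModules.toSheaf R).obj M) := cechAcyc_of_isQC h

end main

end K644.Cartan
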