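import Groth.Agent.AlgSp.K644.Exact
import Mathlib.Algebra.Category.ModuleCat.Sheaf.Quasicoherent

/-!
# Free modules, generating sections and presentations on affine objects
-/

set_option autoImplicit false

universe w v d u w₁ w₂

open CategoryTheory CategoryTheory.Limits AlgebraicGeometry Opposite TensorProduct

namespace K644.Free

open Groth.Agent.Etbase.FFExact K644.Site K644.Psh K644.Alg K644.Colim K644.Exact

/-- Recognition of free modules by their universal property. -/
theorem bijective_linearCombination {A : Type u} [CommRing A] {F : Type (u + 1)} [AddCommGroup F]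
    [Module A F] {I : Type (u + 1)} (e : I → F)
    (hex : ∀ (Q : Type (u + 1)) [AddCommGroup Q] [Module A Q] (q : I → Q),
      ∃ l : F →ₗ[A] Q, ∀ i, l (e i) = q i)
    (hun : ∀ (l : F →ₗ[A] F), (∀ i, l (e i) = e i) → l = LinearMap.id) :
    Function.Bijective (Finsupp.linearCombination A e) := by
  obtain ⟨l, hl⟩ := hex (I →₀ A) (fun i => Finsupp.single i 1)
  have h1 : l.comp (Finsupp.linearCombination A e) = LinearMap.id := by
    refine Finsupp.lhom_ext' fun i => LinearMap.ext_ring ?_
    rw [LinearMap.comp_apply, LinearMap.comp_apply, LinearMap.comp_apply, Finsupp.lsingle_apply,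
      Finsupp.linearCombination_single, one_smul, hl]
    rfl
  have h2 : (Finsupp.linearCombination A e).comp l = LinearMap.id := by
    apply hun
    intro i
    rw [LinearMap.comp_apply, hl, Finsupp.linearCombination_single, one_smul]
  exact ⟨fun a b hab => by
    rw [← LinearMap.id_apply (R := A) a, ← LinearMap.id_apply (R := A) b, ← h1,
      LinearMap.comp_apply, LinearMap.comp_apply, hab],
    fun x => ⟨l x, LinearMap.congr_fun h2 x⟩⟩

variable {D : Type d} [Category.{v} D] {J : GrothendieckTopology D} {T : D ⥤ Scheme.{u}}

section unit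

variable {R : Dᵒᵖ ⥤ RingCat.{w}} [Str T R]

variable (T R) in
/-- Sections of the structure sheaf are functions. -/
noncomputable def unitEquiv (U : D) :
    Γ(T.obj U, ⊤) ≃ₗ[Γ(T.obj U, ⊤)] (PresheafOfModules.unit R).presheaf.obj (op U) where
  toFun a := Str.ρ (T := T) (R := R) U a
  invFun a := (Str.ρ (T := T) (R := R) U).symm a
  left_inv a := RingEquiv.symm_apply_apply (Str.ρ (T := T) (R := R) U) a
  right_inv a := RingEquiv.apply_symm_apply (Str.ρ (T := T) (R := R) U) a
  map_add' a b := map_add (Str.ρ (T := T) (R := R) U) a b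
  map_smul' a b := (map_mul (Str.ρ (T := T) (R := R) U) a b :)

theorem unitEquiv_map {V U : D} (g : V ⟶ U) (a : Γ(T.obj U, ⊤)) :
    (PresheafOfModules.unit R).presheaf.map g.op (unitEquiv T R U a) =
      unitEquiv T R V ((T.map g).appTop.hom a) :=
  Str.nat (T := T) (R := R) g a

/-- The structure sheaf is cartesian on affine objects. -/
theorem isQC_unit : IsQC T (PresheafOfModules.unit R) := by
  intro V U g _ _
  exact IsBC.of_equiv (IsBC.self (T.map g).appTop.hom) (unitEquiv T R U) (unitEquiv T R V) _
    (fun m => Str.nat (T := T) (R := R) g m)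

end unit

section sections

variable {R : Sheaf J RingCat.{w}}

/-- The value of a section at an object. -/
def secAt {M : SheafOfModules.{w} R} (s : M.sections) (U : D) : sec M U := s.1 (op U)

theorem res_secAt {M : SheafOfModules.{w} R} (s : M.sections) {V U : D} (g : V ⟶ U) :
    res M g (secAt s U) = secAt s V := s.2 g.op

theorem secAt_map [Str T R.obj] {M N : SheafOfModules.{w} R} (φ : M ⟶ N) (s : M.sections) (U : D) :
    secAt (SheafOfModules.sectionsMap φ s) U = smap T φ U (secAt s U) := rfl

end sections

variable (T) in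
/-- Sections of the structure sheaf are functions. -/
noncomputable abbrev unitEq (R : Sheaf J RingCat.{w}) [Str T R.obj] (U : D) :
    Γ(T.obj U, ⊤) ≃ₗ[Γ(T.obj U, ⊤)] sec (SheafOfModules.unit R) U := unitEquiv T R.obj U

section free

variable {R : Sheaf J RingCat.{u + 1}}
  [HasWeakSheafify J AddCommGrpCat.{u + 1}]
  [J.WEqualsLocallyBijective AddCommGrpCat.{u + 1}]

theorem secAt_π [Str T R.obj] {M : SheafOfModules.{u + 1} R} {I : Type (u + 1)}
    (s : I → M.sections) (i : I) (U : D) :
    smap T (M.freeHomEquiv.symm s) U (secAt (SheafOfModules.freeSection (R := R) i) U) =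
      secAt (s i) U := by
  rw [← secAt_map, SheafOfModules.sectionsMap_freeHomEquiv_symm_freeSection]

variable (R) in
/-- The basis sections of a free module. -/
noncomputable def basisAt {I : Type (u + 1)} (U : D) (i : I) : sec (SheafOfModules.free (R := R) I) U :=
  secAt (SheafOfModules.freeSection (R := R) i) U

theorem ιFree_apply [Str T R.obj] {I : Type (u + 1)} (i : I) (U : D) (a : Γ(T.obj U, ⊤)) :
    smap T (SheafOfModules.ιFree (R := R) i) U (unitEq T R U a) = a • basisAt R U i := by
  have h1 : basisAt R U i = smap T (SheafOfModules.ιFree (R := R) i) U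
      (unitEq T R U 1) := by
    change secAt (M := SheafOfModules.free I) ((SheafOfModules.free (R := R) I).unitHomEquiv
      (SheafOfModules.ιFree (R := R) i ≫ 𝟙 _)) U = _
    rw [Category.comp_id]
    change _ = smap T (SheafOfModules.ιFree (R := R) i) U (Str.ρ (T := T) (R := R.obj) U 1)
    rw [map_one]
    rfl
  rw [h1, ← map_smul, ← map_smul, smul_eq_mul, mul_one]

variable [HasPullbacks D] [PreservesLimitsOfShape WalkingCospan T] [QCSite J T]
  [Str T R.obj]

variable (T) in
theorem isQC_free (I : Type (u + 1)) : IsQC T (SheafOfModules.free (R := R) I).val :=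
  isQC_of_isColimit (SheafOfModules.isColimitFreeCofan (R := R) I) fun _ => isQC_unit

variable (T R) in
/-- The sections of a free module over an affine object. -/
theorem bijective_free (I : Type (u + 1)) (U : D) (hU : IsAffine (T.obj U)) :
    Function.Bijective (Finsupp.linearCombination Γ(T.obj U, ⊤)
      (fun i : I => basisAt R U i)) := by
  obtain ⟨h'⟩ := isColimit_eval (T := T) (SheafOfModules.isColimitFreeCofan (R := R) I)
    (fun _ => isQC_unit) U hU
  apply bijective_linearCombination
  · intro Q _ _ q
    obtain ⟨l, hl⟩ := desc_exists (T := T)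
      (c := (SheafOfModules.forget R).mapCocone (SheafOfModules.freeCofan (R := R) I)) h'
      (Q := Q) (fun i => (LinearMap.toSpanSingleton Γ(T.obj U, ⊤) Q (q i.as)).comp
        (unitEquiv T R.obj U).symm.toLinearMap) (by
        rintro ⟨i⟩ ⟨j⟩ ⟨⟨h⟩⟩ x
        dsimp at h
        subst h
        rfl)
    refine ⟨l, fun i => ?_⟩
    have h1 := hl ⟨i⟩ (unitEquiv T R.obj U 1)
    have h2 : incl T ((SheafOfModules.forget R).mapCocone (SheafOfModules.freeCofan (R := R) I))
      ⟨i⟩ U (unitEquiv T R.obj U 1) = basisAt R U i :=
      (ιFree_apply (T := T) i U 1).trans (one_smul _ _)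
    refine (congrArg l h2).symm.trans (h1.trans ?_)
    change (unitEquiv T R.obj U).symm (unitEquiv T R.obj U 1) • q i = q i
    rw [LinearEquiv.symm_apply_apply, one_smul]
  · intro l hl
    refine hom_ext (T := T)
      (c := (SheafOfModules.forget R).mapCocone (SheafOfModules.freeCofan (R := R) I)) h'
      (Q := sec (SheafOfModules.free (R := R) I) U) l LinearMap.id ?_
    rintro ⟨i⟩ r
    obtain ⟨a, rfl⟩ := (unitEquiv T R.obj U).surjective r
    have h2 : incl T ((SheafOfModules.forget R).mapCocone (SheafOfModules.freeCofan (R := R) I))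
      ⟨i⟩ U (unitEquiv T R.obj U a) = a • basisAt R U i :=
      ιFree_apply (T := T) i U a
    refine (congrArg l h2).trans (Eq.trans ?_ h2.symm)
    rw [map_smul, hl]

/-- The image on sections of the map from a free module given by a family of sections. -/
theorem range_π {M : SheafOfModules.{u + 1} R} {I : Type (u + 1)} (s : I → M.sections) (U : D)
    (hU : IsAffine (T.obj U)) :
    LinearMap.range (smap T (M.freeHomEquiv.symm s) U) =
      Submodule.span Γ(T.obj U, ⊤) (Set.range fun i => secAt (s i) U) := by
  have h1 : (smap T (M.freeHomEquiv.symm s) U).comp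
      (Finsupp.linearCombination Γ(T.obj U, ⊤) (fun i : I => basisAt R U i)) =
      Finsupp.linearCombination Γ(T.obj U, ⊤) (fun i => secAt (s i) U) := by
    refine Finsupp.lhom_ext' fun i => LinearMap.ext_ring ?_
    rw [LinearMap.comp_apply, LinearMap.comp_apply, LinearMap.comp_apply, Finsupp.lsingle_apply,
      Finsupp.linearCombination_single, one_smul, Finsupp.linearCombination_single, one_smul]
    exact secAt_π s i U
  rw [← Finsupp.range_linearCombination, ← h1, LinearMap.range_comp_of_range_eq_top]
  exact LinearMap.range_eq_top.2 (bijective_free T R I U hU).2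

/-- Generation by global sections, on affine objects. -/
theorem span_eq_top {M : SheafOfModules.{u + 1} R} (hM : IsQC T M.val)
    (σ : M.GeneratingSections) (U : D) (hU : IsAffine (T.obj U)) :
    Submodule.span Γ(T.obj U, ⊤) (Set.range fun i => secAt (σ.s i) U) = ⊤ := by
  rw [← range_π (T := T) σ.s U hU]
  exact LinearMap.range_eq_top.2 (surjective_of_epi (isQC_free T σ.I) hM σ.π U hU)

theorem epi_of_span {M : SheafOfModules.{u + 1} R} {I : Type (u + 1)} (s : I → M.sections)
    (h : ∀ U : D, IsAffine (T.obj U) →
      Submodule.span Γ(T.obj U, ⊤) (Set.range fun i => secAt (s i) U) = ⊤) :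
    Epi (M.freeHomEquiv.symm s) :=
  epi_of_affine (T := T) _ fun U hU => by
    rw [← LinearMap.range_eq_top, range_π s U hU, h U hU]

end free

end K644.Free
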