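import Groth.Agent.AlgSp.K644.Site
import Mathlib.Algebra.Category.ModuleCat.Presheaf.Sheafification
import Mathlib.Algebra.Category.ModuleCat.Presheaf.Colimits
import Mathlib.Algebra.Category.ModuleCat.Presheaf.Limits
import Mathlib.Algebra.Category.ModuleCat.Sheaf.Colimits
import Mathlib.Algebra.Category.ModuleCat.Sheaf.Limits
import Mathlib.Algebra.Category.ModuleCat.Sheaf.Abelian

/-!
# Presheaves of modules which are cartesian on affine objects
-/

set_option autoImplicit false

universe w v d u

open CategoryTheory CategoryTheory.Limits AlgebraicGeometry Opposite TensorProduct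

namespace K644.Psh

open Groth.Agent.Etbase.FFExact K644.Site

variable {D : Type d} [Category.{v} D] {J : GrothendieckTopology D} {T : D ⥤ Scheme.{u}}

/-- The presheaf of rings `R` is identified with the global functions of the schemes `T U`. -/
class Str (T : D ⥤ Scheme.{u}) (R : Dᵒᵖ ⥤ RingCat.{w}) where
  /-- the identification -/
  ρ : ∀ U : D, Γ(T.obj U, ⊤) ≃+* R.obj (op U)
  nat : ∀ {V U : D} (g : V ⟶ U) (a : Γ(T.obj U, ⊤)),
    (R.map g.op).hom (ρ U a) = ρ V ((T.map g).appTop.hom a)

variable {R : Dᵒᵖ ⥤ RingCat.{w}} [Str T R]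

/-- Sections as modules over the functions. -/
noncomputable instance modΓ (P : PresheafOfModules.{w} R) (U : D) :
    Module Γ(T.obj U, ⊤) (P.presheaf.obj (op U)) :=
  Module.compHom (P.obj (op U)) (Str.ρ (T := T) (R := R) U).toRingHom

theorem smul_def (P : PresheafOfModules.{w} R) (U : D) (a : Γ(T.obj U, ⊤))
    (x : P.presheaf.obj (op U)) :
    a • x = (show P.obj (op U) from (Str.ρ (T := T) (R := R) U a) • (show P.obj (op U) from x)) := rfl

theorem map_smul' (P : PresheafOfModules.{w} R) {V U : D} (g : V ⟶ U) (a : Γ(T.obj U, ⊤))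
    (x : P.presheaf.obj (op U)) :
    P.presheaf.map g.op (a • x) = (T.map g).appTop.hom a • P.presheaf.map g.op x := by
  have h := P.map_smul g.op (Str.ρ (T := T) (R := R) U a) x
  rw [Str.nat (T := T) (R := R) g a] at h
  exact h

/-- The underlying morphism of presheaves of abelian groups. -/
noncomputable abbrev ab {P Q : PresheafOfModules.{w} R} (φ : P ⟶ Q) : P.presheaf ⟶ Q.presheaf :=
  (PresheafOfModules.toPresheaf R).map φ

/-- Morphisms of presheaves of modules are linear on sections. -/
theorem ab_smul {P Q : PresheafOfModules.{w} R} (φ : P ⟶ Q) {U : D} (a : Γ(T.obj U, ⊤))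
    (x : P.presheaf.obj (op U)) :
    (ab φ).app (op U) (a • x) = a • (ab φ).app (op U) x :=
  (φ.app (op U)).hom.map_smul (Str.ρ (T := T) (R := R) U a) x

variable (T) in
/-- A morphism of presheaves of modules, on sections, as a linear map over the functions. -/
noncomputable def lin {P Q : PresheafOfModules.{w} R} (φ : P ⟶ Q) (U : D) :
    P.presheaf.obj (op U) →ₗ[Γ(T.obj U, ⊤)] Q.presheaf.obj (op U) where
  toFun := (ab φ).app (op U)
  map_add' := map_add _
  map_smul' := ab_smul φ

theorem lin_apply {P Q : PresheafOfModules.{w} R} (φ : P ⟶ Q) (U : D)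
    (x : P.presheaf.obj (op U)) : lin T φ U x = (ab φ).app (op U) x := rfl

theorem lin_map {P Q : PresheafOfModules.{w} R} (φ : P ⟶ Q) {V U : D} (g : V ⟶ U)
    (x : P.presheaf.obj (op U)) :
    lin T φ V (P.presheaf.map g.op x) = Q.presheaf.map g.op (lin T φ U x) :=
  naturality_apply (ab φ) g x

variable (T) in
/-- The base change property on affine objects. -/
def IsQC (P : PresheafOfModules.{w} R) : Prop :=
  ∀ ⦃V U : D⦄ (g : V ⟶ U), IsAffine (T.obj V) → IsAffine (T.obj U) →
    IsBC (T.map g).appTop.hom (P.presheaf.map g.op).hom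

section

variable [PreservesLimitsOfShape WalkingCospan T]

theorem IsQC.affSheaf {P : PresheafOfModules.{w} R} (h : IsQC T P) :
    AffSheaf J T P.presheaf where
  inj f hf := IsBC.injective hf.ff (h f hf.src hf.tgt)
  glue {V U W} f a b hf sq x hx := by
    have hW := isAffine_of_isPullback sq hf.tgt hf.src hf.src
    let _ : Module Γ(T.obj U, ⊤) (P.presheaf.obj (op V)) :=
      Module.compHom _ (T.map f).appTop.hom
    let _ : Module Γ(T.obj V, ⊤) (P.presheaf.obj (op W)) :=
      Module.compHom _ (T.map a).appTop.hom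
    let d : P.presheaf.obj (op U) →ₗ[Γ(T.obj U, ⊤)] P.presheaf.obj (op V) :=
      { toFun := P.presheaf.map f.op
        map_add' := map_add _
        map_smul' := fun r m => map_smul' P f r m }
    let d' : P.presheaf.obj (op V) →ₗ[Γ(T.obj V, ⊤)] P.presheaf.obj (op W) :=
      { toFun := P.presheaf.map a.op
        map_add' := map_add _
        map_smul' := fun r m => map_smul' P a r m }
    refine IsBC.exact (T.map f).appTop.hom hf.ff d d' (P.presheaf.map f.op).hom
      (P.presheaf.map b.op).hom (h f hf.src hf.tgt)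
      (IsBC.of_isPullback sq hf.tgt hf.src hf.src (fun _ _ => rfl) (fun _ _ => rfl) _
        (h b hW hf.src)) ?_ x ⟨x, hx⟩
    intro m
    change P.presheaf.map b.op (P.presheaf.map f.op m) = P.presheaf.map a.op (P.presheaf.map f.op m)
    rw [← map_comp_apply, ← map_comp_apply, sq.w]
  dec Y s hs := by
    have := hs.fin
    exact pi_bijective (fun i => (T.map (s i)).appTop.hom) hs.bij
      (fun i => (P.presheaf.map (s i).op).hom) (fun i => h (s i) (hs.aff i) hs.tgt)

end

end K644.Psh
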