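import Mathlib.CategoryTheory.Limits.Shapes.WidePullbacks
import Mathlib.CategoryTheory.Limits.Shapes.Pullback.HasPullback
import Mathlib.Logic.Equiv.Fin.Basic

/-!
# Wide pullbacks of finitely many copies of one morphism, from pullbacks
-/

set_option autoImplicit false

universe v u

open CategoryTheory CategoryTheory.Limits

namespace K644.Wide

variable {C : Type u} [Category.{v} C] [HasPullbacks C]

theorem exists_cone {V U : C} (f : V ⟶ U) (n : ℕ) :
    ∃ (P : C) (b : P ⟶ U) (p : Fin (n + 1) → (P ⟶ V)), (∀ i, p i ≫ f = b) ∧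
      ∀ (W : C) (v : Fin (n + 1) → (W ⟶ V)) (c : W ⟶ U), (∀ i, v i ≫ f = c) →
        ∃ l : W ⟶ P, (∀ i, l ≫ p i = v i) ∧ ∀ l' : W ⟶ P, (∀ i, l' ≫ p i = v i) → l' = l := by
  induction n with
  | zero =>
    refine ⟨V, f, fun _ => 𝟙 V, fun _ => Category.id_comp f, fun W v c _ =>
      ⟨v 0, fun i => ?_, fun l' hl' => ?_⟩⟩
    · rw [Category.comp_id, Fin.fin_one_eq_zero i]
    · rw [← hl' 0, Category.comp_id]
  | succ n ih =>
    obtain ⟨P, b, p, hp, hu⟩ := ih
    obtain ⟨q, hq1, hq2⟩ : ∃ q : Fin (n + 1 + 1) → (pullback b f ⟶ V),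
        q (Fin.last (n + 1)) = pullback.snd b f ∧
          ∀ i : Fin (n + 1), q i.castSucc = pullback.fst b f ≫ p i :=
      ⟨Fin.lastCases (pullback.snd b f) (fun i => pullback.fst b f ≫ p i),
        Fin.lastCases_last, fun i => Fin.lastCases_castSucc _⟩
    refine ⟨pullback b f, pullback.fst b f ≫ b, q, ?_, ?_⟩
    · intro i
      induction i using Fin.lastCases with
      | last => rw [hq1, pullback.condition]
      | cast i => rw [hq2, Category.assoc, hp]
    · intro W v c hv
      obtain ⟨l, hl, hl'⟩ := hu W (fun i => v i.castSucc) c (fun i => hv _)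
      have hb : l ≫ b = v (Fin.last (n + 1)) ≫ f := by
        rw [hv, ← hp 0, ← Category.assoc, hl, hv]
      refine ⟨pullback.lift l (v (Fin.last (n + 1))) hb, ?_, ?_⟩
      · intro i
        induction i using Fin.lastCases with
        | last => rw [hq1, pullback.lift_snd]
        | cast i => rw [hq2, pullback.lift_fst_assoc, hl]
      · intro l' h'
        apply pullback.hom_ext
        · rw [pullback.lift_fst]
          refine hl' _ fun i => ?_
          rw [Category.assoc, ← hq2, h']
        · rw [pullback.lift_snd, ← hq1, h']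

theorem hasWidePullback {V U : C} (f : V ⟶ U) (n : ℕ) :
    HasWidePullback U (fun _ : Fin (n + 1) => V) (fun _ => f) := by
  obtain ⟨P, b, p, hp, hu⟩ := exists_cone f n
  let F := WidePullbackShape.wideCospan U (fun _ : Fin (n + 1) => V) (fun _ => f)
  let c : Cone F := WidePullbackShape.mkCone (F := F) b p (fun i => hp i)
  have key : ∀ s : Cone F, ∃ l : s.pt ⟶ P, (∀ i, l ≫ p i = s.π.app (some i)) ∧
      ∀ l' : s.pt ⟶ P, (∀ i, l' ≫ p i = s.π.app (some i)) → l' = l := fun s =>
    hu s.pt (fun i => s.π.app (some i)) (s.π.app none) (fun i => s.w (WidePullbackShape.Hom.term i))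
  choose l hl hl' using key
  exact ⟨⟨c,
    { lift := l
      fac := fun s j => by
        match j with
        | some i => exact hl s i
        | none =>
          change l s ≫ b = _
          rw [← hp 0, ← Category.assoc, hl]
          exact s.w (WidePullbackShape.Hom.term 0)
      uniq := fun s m hm => hl' s m fun i => hm (some i) }⟩⟩

end K644.Wide
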