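import Groth.Agent.Etbase.CechCartan
import Groth.Agent.AlgSp.K644.Psh
import Groth.Agent.AlgSp.K644.Wide

/-!
# Presheaves cartesian on affine objects are Čech acyclic for affine coverings
-/

set_option autoImplicit false

universe w v d u

open CategoryTheory CategoryTheory.Limits AlgebraicGeometry Opposite Simplicial

namespace K644.Cech

open Groth.Agent.Etbase.CechCartan Groth.Agent.Etbase.FFExact K644.Site K644.Psh

instance hasWide {C : Type*} [Category* C] [HasPullbacks C] (V U : C) (f : V ⟶ U) (n : ℕ) :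
    HasWidePullback (Arrow.mk f).right (fun _ : Fin (n + 1) => (Arrow.mk f).left)
      fun _ => (Arrow.mk f).hom := K644.Wide.hasWidePullback f n

lemma succAbove_last' {n : ℕ} (i : Fin (n + 2)) :
    (i.castSucc : Fin (n + 3)).succAbove (Fin.last (n + 1)) = Fin.last (n + 2) := by
  rw [Fin.succAbove_of_le_castSucc _ _ (Fin.castSucc_le_castSucc_iff.2 (Fin.le_last i))]
  rfl

section shift

variable {C : Type*} [Category* C] {V U : C} (f : V ⟶ U)
  [∀ n : ℕ, HasWidePullback (Arrow.mk f).right (fun _ : Fin (n + 1) => (Arrow.mk f).left)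
    fun _ => (Arrow.mk f).hom]

/-- `(v_0, …, v_{n+1}) ↦ (v_{n+1}, v_0, …, v_{n+1})`. -/
noncomputable def sh (n : ℕ) : (Arrow.mk f).cechNerve _⦋n + 1⦌ ⟶ (Arrow.mk f).cechNerve _⦋n + 2⦌ :=
  mkE f (n + 2) (bs f (n + 1)) (Fin.cases (pr f (n + 1) (Fin.last (n + 1)))
    (fun i => pr f (n + 1) i)) (by
      intro i
      induction i using Fin.cases with
      | zero => exact pr_comp _ _ _
      | succ i => exact pr_comp _ _ _)

@[reassoc (attr := simp)]
lemma sh_pr_zero (n : ℕ) : sh f n ≫ pr f (n + 2) 0 = pr f (n + 1) (Fin.last (n + 1)) := by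
  simp [sh]

@[reassoc (attr := simp)]
lemma sh_pr_succ (n : ℕ) (i : Fin (n + 2)) : sh f n ≫ pr f (n + 2) i.succ = pr f (n + 1) i := by
  simp [sh]

@[reassoc]
lemma sh_δ_zero (n : ℕ) : sh f n ≫ (Arrow.mk f).cechNerve.δ 0 = 𝟙 _ := by
  apply E_hom_ext
  intro i
  simp

@[reassoc]
lemma sh_δ_succ (n : ℕ) (i : Fin (n + 2)) :
    sh f (n + 1) ≫ (Arrow.mk f).cechNerve.δ i.succ.castSucc =
      (Arrow.mk f).cechNerve.δ i.castSucc ≫ sh f n := by
  apply E_hom_ext
  intro k
  induction k using Fin.cases with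
  | zero =>
    simp only [Category.assoc, δ_pr, sh_pr_zero]
    have h1 : (i.succ.castSucc : Fin (n + 1 + 3)).succAbove 0 = 0 := by
      rw [← Fin.succ_castSucc]
      exact Fin.succ_succAbove_zero _
    have h2 : (i.castSucc : Fin (n + 1 + 2)).succAbove (Fin.last (n + 1)) = Fin.last (n + 2) :=
      succAbove_last' i
    rw [h1, h2, sh_pr_zero]
  | succ k =>
    simp only [Category.assoc, δ_pr, sh_pr_succ]
    have h1 : (i.succ.castSucc : Fin (n + 1 + 3)).succAbove k.succ =
      ((i.castSucc : Fin (n + 1 + 2)).succAbove k).succ := by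
      rw [← Fin.succ_castSucc, Fin.succ_succAbove_succ]
    rw [h1, sh_pr_succ]

lemma δ_last_comm (n : ℕ) (j : Fin (n + 2)) :
    (Arrow.mk f).cechNerve.δ (Fin.last (n + 2)) ≫ (Arrow.mk f).cechNerve.δ j =
      (Arrow.mk f).cechNerve.δ j.castSucc ≫ (Arrow.mk f).cechNerve.δ (Fin.last (n + 1)) := by
  apply E_hom_ext
  intro k
  simp only [Category.assoc, δ_pr]
  congr 1
  rw [Fin.succAbove_last, Fin.succAbove_last, Fin.castSucc_succAbove_castSucc]

end shift


/-- `E_{n+1} = E_n ×_U V` in the Čech nerve (forgetting the last factor). -/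
lemma isPullback_last {C : Type*} [Category* C] {V U : C} (f : V ⟶ U)
    [∀ n : ℕ, HasWidePullback (Arrow.mk f).right (fun _ : Fin (n + 1) => (Arrow.mk f).left)
      fun _ => (Arrow.mk f).hom] (n : ℕ) :
    IsPullback ((Arrow.mk f).cechNerve.δ (Fin.last (n + 1))) (pr f (n + 1) (Fin.last (n + 1)))
      (bs f n) f where
  w := by rw [δ_bs, pr_comp]
  isLimit' := ⟨PullbackCone.IsLimit.mk _
    (fun s => mkE f (n + 1) (s.snd ≫ f) (Fin.lastCases s.snd (fun i => s.fst ≫ pr f n i)) (by
      intro i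
      induction i using Fin.lastCases with
      | last => simp
      | cast i =>
        simp only [Fin.lastCases_castSucc, Category.assoc, pr_comp]
        exact s.condition))
    (fun s => by
      apply E_hom_ext
      intro i
      simp)
    (fun s => by simp)
    (fun s m h1 h2 => by
      apply E_hom_ext
      intro i
      induction i using Fin.lastCases with
      | last => simpa using h2
      | cast i =>
        rw [mkE_pr, Fin.lastCases_castSucc, ← h1, Category.assoc, δ_pr]
        simp)⟩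

variable {D : Type d} [Category.{v} D] {J : GrothendieckTopology D} {T : D ⥤ Scheme.{u}}
  [HasPullbacks D] [PreservesLimitsOfShape WalkingCospan T]

lemma isAffine_cechNerve {V U : D} (f : V ⟶ U) (hV : IsAffine (T.obj V)) (hU : IsAffine (T.obj U))
    (n : ℕ) : IsAffine (T.obj ((Arrow.mk f).cechNerve _⦋n⦌ : D)) := by
  induction n with
  | zero =>
    let e : V ⟶ (Arrow.mk f).cechNerve _⦋0⦌ := mkE f 0 f (fun _ => 𝟙 _) (by simp)
    have h1 : e ≫ pr f 0 0 = 𝟙 _ := by simp [e]
    have h2 : pr f 0 0 ≫ e = 𝟙 _ := by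
      apply E_hom_ext
      intro i
      fin_cases i
      simp [e]
    let i : V ≅ (Arrow.mk f).cechNerve _⦋0⦌ := ⟨e, pr f 0 0, h1, h2⟩
    exact IsAffine.of_isIso (T.mapIso i).inv
  | succ n ih => exact isAffine_of_isPullback (isPullback_last f n) hU ih hV

/-- Presheaves cartesian on affine objects are Čech acyclic for affine coverings. -/
theorem exact'_of_isQC {R : Dᵒᵖ ⥤ RingCat.{w}} [Str T R] {M : PresheafOfModules.{w} R}
    (h : IsQC T M) {V U : D} (f : V ⟶ U) (hf : AffCov J T f) :
    Exact' M.presheaf (Arrow.mk f).cechNerve := by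
  intro n x hx
  let P := M.presheaf
  let E := (Arrow.mk f).cechNerve
  have hE : ∀ n, IsAffine (T.obj (E _⦋n⦌ : D)) := fun n => isAffine_cechNerve f hf.src hf.tgt n
  let modA : ∀ n, Module Γ(T.obj U, ⊤) (P.obj (op (E _⦋n⦌))) :=
    fun n => Module.compHom _ (T.map (bs f n)).appTop.hom
  let modB : ∀ n, Module Γ(T.obj V, ⊤) (P.obj (op (E _⦋n + 1⦌))) :=
    fun n => Module.compHom _ (T.map (pr f (n + 1) (Fin.last (n + 1)))).appTop.hom
  have semilin : ∀ {W' W Z : D} (g : W' ⟶ W) (b : W ⟶ Z) (b' : W' ⟶ Z) (_ : g ≫ b = b')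
      (a : Γ(T.obj Z, ⊤)) (x : P.obj (op W)),
      P.map g.op ((T.map b).appTop.hom a • x) = (T.map b').appTop.hom a • P.map g.op x := by
    intro W' W Z g b b' hb a x
    refine (map_smul' M g _ x).trans ?_
    congr 1
    subst hb
    rw [T.map_comp, Scheme.Hom.comp_appTop]
    rfl
  let d : P.obj (op (E _⦋n⦌)) →ₗ[Γ(T.obj U, ⊤)] P.obj (op (E _⦋n + 1⦌)) :=
    { toFun := dC P E n
      map_add' := map_add _
      map_smul' := by
        intro a y
        rw [dC_apply, dC_apply, Finset.smul_sum]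
        refine Finset.sum_congr rfl fun i _ => ?_
        rw [RingHom.id_apply, smul_comm]
        congr 1
        exact semilin (E.δ i) (bs f n) (bs f (n + 1)) (δ_bs f n i) a y }
  let d' : P.obj (op (E _⦋n + 1⦌)) →ₗ[Γ(T.obj V, ⊤)] P.obj (op (E _⦋n + 2⦌)) :=
    { toFun := fun y => ∑ i : Fin (n + 2), (-1 : ℤ) ^ (i : ℕ) • P.map (E.δ i.castSucc).op y
      map_add' := by
        intro y z
        simp only [map_add, smul_add, Finset.sum_add_distrib]
      map_smul' := by
        intro a y
        rw [Finset.smul_sum]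
        refine Finset.sum_congr rfl fun i _ => ?_
        rw [RingHom.id_apply, smul_comm]
        congr 1
        refine semilin (E.δ i.castSucc) (pr f (n + 1) (Fin.last (n + 1)))
          (pr f (n + 2) (Fin.last (n + 2))) ?_ a y
        rw [δ_pr]
        congr 1
        exact succAbove_last' i }
  have hbc : ∀ n, IsBC (T.map f).appTop.hom (P.map (E.δ (Fin.last (n + 1))).op).hom := by
    intro n
    exact IsBC.of_isPullback (isPullback_last f n).flip hf.tgt hf.src (hE n) (fun _ _ => rfl)
      (fun _ _ => rfl) _ (h (E.δ (Fin.last (n + 1))) (hE _) (hE _))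
  refine IsBC.exact (T.map f).appTop.hom hf.ff d d' (P.map (E.δ (Fin.last (n + 1))).op).hom
    (P.map (E.δ (Fin.last (n + 2))).op).hom (hbc n) (hbc (n + 1)) ?_ x
    ⟨P.map (sh f n).op (P.map (E.δ (Fin.last (n + 2))).op x), ?_⟩
  · intro m
    change P.map (E.δ (Fin.last (n + 2))).op (dC P E n m) =
      ∑ i : Fin (n + 2), (-1 : ℤ) ^ (i : ℕ) • P.map (E.δ i.castSucc).op
        (P.map (E.δ (Fin.last (n + 1))).op m)
    rw [dC_apply, map_sum]
    refine Finset.sum_congr rfl fun i _ => ?_
    rw [map_zsmul]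
    congr 1
    change (P.map (E.δ i).op ≫ P.map (E.δ (Fin.last (n + 2))).op) m =
      (P.map (E.δ (Fin.last (n + 1))).op ≫ P.map (E.δ i.castSucc).op) m
    rw [← Functor.map_comp, ← Functor.map_comp, ← op_comp, ← op_comp, δ_last_comm]
  · set y := P.map (E.δ (Fin.last (n + 2))).op x with hy
    change ∑ i : Fin (n + 2), (-1 : ℤ) ^ (i : ℕ) • P.map (E.δ i.castSucc).op
      (P.map (sh f n).op y) = y
    have h1 : ∑ j : Fin (n + 3), (-1 : ℤ) ^ (j : ℕ) • P.map (sh f (n + 1)).op
        (P.map (E.δ j.castSucc).op y) = 0 := by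
      have h2 : P.map (sh f (n + 1)).op (P.map (E.δ (Fin.last (n + 3))).op
          (dC P E (n + 1) x)) = 0 := by
        rw [hx, map_zero, map_zero]
      rw [dC_apply, map_sum, map_sum] at h2
      rw [← h2]
      refine Finset.sum_congr rfl fun j _ => ?_
      rw [map_zsmul, map_zsmul]
      congr 2
      rw [hy]
      change (P.map (E.δ (Fin.last (n + 2))).op ≫ P.map (E.δ j.castSucc).op) x =
        (P.map (E.δ j).op ≫ P.map (E.δ (Fin.last (n + 3))).op) x
      rw [← Functor.map_comp, ← Functor.map_comp, ← op_comp, ← op_comp, δ_last_comm]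
    rw [Fin.sum_univ_succ] at h1
    have h3 : P.map (sh f (n + 1)).op (P.map (E.δ (Fin.castSucc 0)).op y) = y := by
      change (P.map (E.δ 0).op ≫ P.map (sh f (n + 1)).op) y = y
      rw [← Functor.map_comp, ← op_comp, sh_δ_zero, op_id, P.map_id]
      rfl
    rw [h3, Fin.val_zero, pow_zero, one_smul] at h1
    rw [← sub_eq_zero, ← neg_sub, neg_eq_zero, ← h1, sub_eq_add_neg, ← Finset.sum_neg_distrib]
    congr 1
    refine Finset.sum_congr rfl fun i _ => ?_
    rw [Fin.val_succ, pow_succ]
    simp only [mul_neg, mul_one, neg_smul]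
    congr 2
    change (P.map (sh f n).op ≫ P.map (E.δ i.castSucc).op) y =
      (P.map (E.δ i.succ.castSucc).op ≫ P.map (sh f (n + 1)).op) y
    rw [← Functor.map_comp, ← Functor.map_comp, ← op_comp, ← op_comp, sh_δ_succ]

/-- The class of coverings of affine objects by one affine object. -/
theorem cechAcyc_of_isQC {R : Dᵒᵖ ⥤ RingCat.{w}} [Str T R] {M : PresheafOfModules.{w} R}
    (h : IsQC T M) : CechAcyc (fun ⦃_ _⦄ f => AffCov J T f) M.presheaf :=
  fun _ _ f hf => exact'_of_isQC h f hf

end K644.Cech
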