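import Groth.Agent.AlgSp.K644.ChartFin
import Groth.Agent.AlgSp.K648.Noeth

/-!
# Coherent modules on locally Noetherian spaces
-/

set_option autoImplicit false

universe u

open CategoryTheory CategoryTheory.Limits AlgebraicGeometry Opposite

namespace K644.CohNoeth

open AlgSp K644.Site K644.Psh K644.Exact K644.EtSite K644.QCoh K644.Chart
  Groth.Agent.Etbase.FFExact

variable {S : Scheme.{u}} {X : Sp S}

theorem isCart_of_iso {M N : ModEt X} (e : M ≅ N) (h : IsCart M) : IsCart N := by
  rw [isCart_iff_isQC] at h ⊢
  intro V U g hV hU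
  have h1 := h g hV hU
  let l : ∀ E : EtOver X, sec M E ≃ₗ[Γ((EtOver.toScheme X).obj E, ⊤)] sec N E := fun E =>
    LinearEquiv.ofLinearMap (smap _ e.hom E) (smap _ e.inv E)
      (LinearMap.ext fun x => by
        change smap (EtOver.toScheme X) (e.inv ≫ e.hom) E x = x
        rw [e.inv_hom_id]
        exact smap_id E x)
      (LinearMap.ext fun x => by
        change smap (EtOver.toScheme X) (e.hom ≫ e.inv) E x = x
        rw [e.hom_inv_id]
        exact smap_id E x)
  exact K644.Alg.IsBC.of_equiv h1 (l U) (l V) _ (fun m => (smap_res e.hom g m).symm)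

/-- The linear equivalence on sections given by an isomorphism. -/
noncomputable def secEquiv {M N : ModEt X} (e : M ≅ N) (E : EtOver X) :
    sec M E ≃ₗ[Γ((EtOver.toScheme X).obj E, ⊤)] sec N E :=
  LinearEquiv.ofLinearMap (smap _ e.hom E) (smap _ e.inv E)
      (LinearMap.ext fun x => by
        change smap (EtOver.toScheme X) (e.inv ≫ e.hom) E x = x
        rw [e.inv_hom_id]
        exact smap_id E x)
      (LinearMap.ext fun x => by
        change smap (EtOver.toScheme X) (e.hom ≫ e.inv) E x = x
        rw [e.hom_inv_id]
        exact smap_id E x)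

theorem isFinitePresentation_of_iso {M N : ModEt X} (e : M ≅ N) [M.IsFinitePresentation] :
    N.IsFinitePresentation := by
  rw [ChartFin.isFinitePresentation_iff]
  refine ⟨isCart_of_iso e ((isQuasicoherent_iff_isCart M).1 inferInstance), fun E hE => ?_⟩
  have h : Module.FinitePresentation Γ((EtOver.toScheme X).obj E, ⊤) (sec M E) :=
    ChartFin.fp_sec M hE
  have h2 : Module.FinitePresentation Γ((EtOver.toScheme X).obj E, ⊤) (sec N E) :=
    Module.FinitePresentation.of_equiv (secEquiv e E)
  exact h2

/-- Quasi-coherent modules with finite sections over a locally Noetherian space. -/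
theorem isFinitePresentation_of_finite (hN : IsLocNoethSp X) (M : ModEt X) [M.IsQuasicoherent]
    (h : ∀ (E : EtOver X), IsAffine (sch E) →
      Module.Finite Γ((EtOver.toScheme X).obj E, ⊤) (sec M E)) : M.IsFinitePresentation := by
  rw [K644.ChartFin.isFinitePresentation_iff]
  refine ⟨(K644.Chart.isQuasicoherent_iff_isCart M).1 inferInstance, fun E hE => ?_⟩
  have := h E hE
  have : IsNoetherianRing Γ((EtOver.toScheme X).obj E, ⊤) :=
    K648.Noeth.isNoetherianRing_of_chart hN E
  have h2 : Module.FinitePresentation Γ((EtOver.toScheme X).obj E, ⊤) (sec M E) :=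
    Module.finitePresentation_of_finite _ _
  exact h2

theorem isFinitePresentation (hN : IsLocNoethSp X) (M : ModEt X) [M.IsQuasicoherent]
    [M.IsFiniteType] : M.IsFinitePresentation :=
  isFinitePresentation_of_finite hN M fun _ hE => ChartFin.finite_sec M hE

theorem noetherian_sec (hN : IsLocNoethSp X) (M : ModEt X) [M.IsQuasicoherent] [M.IsFiniteType]
    (E : EtOver X) (hE : IsAffine (sch E)) :
    _root_.IsNoetherian Γ((EtOver.toScheme X).obj E, ⊤) (sec M E) := by
  have h3 : Module.Finite Γ((EtOver.toScheme X).obj E, ⊤) (sec M E) :=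
    K644.ChartFin.finite_sec M hE
  have hE' : IsAffine E.obj.left.left := hE
  have h4 : IsNoetherianRing Γ((EtOver.toScheme X).obj E, ⊤) :=
    K648.Noeth.isNoetherianRing_of_chart hN E
  exact isNoetherian_of_isNoetherianRing_of_finite _ _

theorem injective_of_mono {M N : ModEt X} (a : M ⟶ N) [Mono a] (E : EtOver X) :
    Function.Injective (smap (EtOver.toScheme X) a E) := by
  have : Mono ((SheafOfModules.evaluation (OEtRing X) (op E)).map a) := inferInstance
  exact (ModuleCat.mono_iff_injective _).1 this

/-- Quasi-coherent submodules of coherent modules are coherent. -/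
theorem isFinitePresentation_of_mono (hN : IsLocNoethSp X) {M N : ModEt X} (a : M ⟶ N) [Mono a]
    [M.IsQuasicoherent] [N.IsQuasicoherent] [N.IsFiniteType] : M.IsFinitePresentation :=
  isFinitePresentation_of_finite hN M fun E hE => by
    have := noetherian_sec hN N E hE
    exact Module.Finite.of_injective (smap (EtOver.toScheme X) a E) (injective_of_mono a E)

/-- Quasi-coherent quotients of coherent modules are coherent. -/
theorem isFinitePresentation_of_epi (hN : IsLocNoethSp X) {M N : ModEt X} (a : M ⟶ N) [Epi a]
    [M.IsQuasicoherent] [M.IsFiniteType] [N.IsQuasicoherent] : N.IsFinitePresentation :=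
  isFinitePresentation_of_finite hN N fun E hE => by
    have h3 : Module.Finite Γ((EtOver.toScheme X).obj E, ⊤) (sec M E) :=
      K644.ChartFin.finite_sec M hE
    exact Module.Finite.of_surjective (smap (EtOver.toScheme X) a E)
      (surjective_of_epi (Chart.isQC M) (Chart.isQC N) a E hE)

end K644.CohNoeth
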