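import Groth.Agent.AlgSp.K644.Stalk
import Groth.Agent.AlgSp.K644.Exact
import Mathlib.Algebra.Category.ModuleCat.Sheaf.Colimits

/-!
# Filtered colimits of quasi-coherent modules, tested on the sections over a surjective affine chart
-/

set_option autoImplicit false

universe u

open CategoryTheory CategoryTheory.Limits AlgebraicGeometry Opposite

namespace K644.FiltSec

open AlgSp K644.Site K644.Psh K644.Exact K644.EtSite K644.QCoh K644.Chart K644.Colim K644.Alg
  Groth.Agent.Etbase.FFExact

variable {S : Scheme.{u}} {X : Sp S}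

/-- Base changes of bijective maps are bijective. -/
theorem bijective_baseChange {A B : Type*} [CommRing A] [CommRing B] {φ : A →+* B}
    {M M' N N' : Type*} [AddCommGroup M] [AddCommGroup M'] [Module A M] [Module B M']
    [AddCommGroup N] [AddCommGroup N'] [Module A N] [Module B N']
    {ψ : M →+ M'} {χ : N →+ N'} (h : IsBC φ ψ) (h' : IsBC φ χ) (f : M →ₗ[A] N) (g : M' →ₗ[B] N')
    (comm : ∀ m, g (ψ m) = χ (f m)) (hf : Function.Bijective f) : Function.Bijective g := by
  let e := LinearEquiv.ofBijective f hf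
  obtain ⟨k, hk, -⟩ := IsBC.existsUnique_lift h' (ψ.comp (e.symm : N →+ M)) (fun a m => by
    change ψ (e.symm (a • m)) = φ a • ψ (e.symm m)
    rw [map_smul, h.choose])
  have hk' : ∀ m, k (χ m) = ψ (e.symm m) := hk
  have h1 : k.comp g = LinearMap.id := IsBC.hom_ext h _ _ fun m => by
    change k (g (ψ m)) = ψ m
    rw [comm, hk']
    congr 1
    exact e.symm_apply_apply m
  have h2 : g.comp k = LinearMap.id := IsBC.hom_ext h' _ _ fun m => by
    change g (k (χ m)) = χ m
    rw [hk', comm]
    congr 1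
    exact e.apply_symm_apply m
  refine ⟨fun x y hxy => ?_, fun y => ⟨k y, LinearMap.congr_fun h2 y⟩⟩
  have := congrArg k hxy
  exact (LinearMap.congr_fun h1 x).symm.trans (this.trans (LinearMap.congr_fun h1 y))

theorem surjective_baseChange {A B : Type*} [CommRing A] [CommRing B] {φ : A →+* B}
    {M M' N N' : Type*} [AddCommGroup M] [AddCommGroup M'] [Module A M] [Module B M']
    [AddCommGroup N] [AddCommGroup N'] [Module A N] [Module B N']
    {ψ : M →+ M'} {χ : N →+ N'} (h' : IsBC φ χ) (f : M →ₗ[A] N) (g : M' →ₗ[B] N')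
    (comm : ∀ m, g (ψ m) = χ (f m)) (hf : Function.Surjective f) : Function.Surjective g := by
  have h1 := K644.Pres.IsBC.span_eq_top h' (id : N → N)
    (by rw [Set.range_id]; exact Submodule.span_univ)
  rw [← LinearMap.range_eq_top, eq_top_iff, ← h1, Submodule.span_le]
  rintro _ ⟨n, rfl⟩
  obtain ⟨m, rfl⟩ := hf n
  exact ⟨ψ m, comm m⟩

section colim

variable {K : Type (u + 1)} [SmallCategory K] [IsFiltered K] {D : K ⥤ ModEt X} {c : Cocone D}

/-- Sections of a filtered colimit over an affine object come from a finite stage. -/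
theorem exists_stage (hc : IsColimit c) (h : ∀ k, IsQC (EtOver.toScheme X) (D.obj k).val)
    (E : EtOver X) (hE : IsAffine (sch E)) (z : sec c.pt E) :
    ∃ (k : K) (t : sec (D.obj k) E), smap (EtOver.toScheme X) (c.ι.app k) E t = z := by
  obtain ⟨h'⟩ := isColimit_eval (T := EtOver.toScheme X) hc h E hE
  have hw : ∀ {k k' : K} (f : k ⟶ k') (t : sec (D.obj k) E),
      smap (EtOver.toScheme X) (c.ι.app k') E (smap (EtOver.toScheme X) (D.map f) E t) =
        smap (EtOver.toScheme X) (c.ι.app k) E t := fun f t => by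
    rw [← smap_comp, c.w]
  let P : Submodule Γ((EtOver.toScheme X).obj E, ⊤) (sec c.pt E) :=
    { carrier := {z | ∃ (k : K) (t : sec (D.obj k) E), smap (EtOver.toScheme X) (c.ι.app k) E t = z}
      zero_mem' := ⟨Classical.choice IsFiltered.nonempty, 0, map_zero _⟩
      add_mem' := by
        rintro _ _ ⟨k, t, rfl⟩ ⟨k', t', rfl⟩
        refine ⟨IsFiltered.max k k', smap (EtOver.toScheme X) (D.map (IsFiltered.leftToMax k k')) E t +
          smap (EtOver.toScheme X) (D.map (IsFiltered.rightToMax k k')) E t', ?_⟩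
        rw [map_add, hw, hw]
      smul_mem' := by
        rintro r _ ⟨k, t, rfl⟩
        exact ⟨k, r • t, map_smul _ _ _⟩ }
  have h1 := Colim.hom_ext (T := EtOver.toScheme X)
    (c := (SheafOfModules.forget (OEtRing X)).mapCocone c) h'
    (Q := sec c.pt E ⧸ P) P.mkQ 0 (fun k t => by
      refine (Submodule.Quotient.mk_eq_zero P).2 ?_
      exact ⟨k, t, rfl⟩)
  have h2 : P.mkQ z = 0 := LinearMap.congr_fun h1 z
  exact (Submodule.Quotient.mk_eq_zero P).1 h2

variable {M : ModEt X} (ι : D ⟶ (Functor.const K).obj M)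

/-- A filtered system of quasi-coherent modules over `M` has colimit `M` if this is so on the
sections over a surjective affine chart. -/
theorem isColimit_of_sections [M.IsQuasicoherent] (hD : ∀ k, (D.obj k).IsQuasicoherent)
    (E₀ : EtOver X) (hE₀ : IsAffine (sch E₀)) (hs : RepWith @Surjective E₀.obj.hom)
    (h1 : ∀ s : sec M E₀, ∃ (k : K) (t : sec (D.obj k) E₀),
      smap (EtOver.toScheme X) (ι.app k) E₀ t = s)
    (h2 : ∀ (k : K) (t : sec (D.obj k) E₀), smap (EtOver.toScheme X) (ι.app k) E₀ t = 0 →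
      ∃ (k' : K) (f : k ⟶ k'), smap (EtOver.toScheme X) (D.map f) E₀ t = 0) :
    Nonempty (IsColimit (Cocone.mk M ι)) := by
  have hD' : ∀ k, IsQC (EtOver.toScheme X) (D.obj k).val := fun k => Chart.isQC (D.obj k)
  let c := colimit.cocone D
  let hc : IsColimit c := colimit.isColimit D
  let φ : c.pt ⟶ M := hc.desc (Cocone.mk M ι)
  have hφ : ∀ k, c.ι.app k ≫ φ = ι.app k := fun k => hc.fac (Cocone.mk M ι) k
  have hC : IsQC (EtOver.toScheme X) c.pt.val := isQC_of_isColimit hc hD'
  have hb : Function.Bijective (smap (EtOver.toScheme X) φ E₀) := by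
    constructor
    · rw [injective_iff_map_eq_zero]
      intro z hz
      obtain ⟨k, t, rfl⟩ := exists_stage hc hD' E₀ hE₀ z
      rw [← smap_comp, hφ] at hz
      obtain ⟨k', f, hf⟩ := h2 k t hz
      rw [← c.w f, smap_comp, hf, map_zero]
    · intro s
      obtain ⟨k, t, rfl⟩ := h1 s
      refine ⟨smap (EtOver.toScheme X) (c.ι.app k) E₀ t, ?_⟩
      rw [← smap_comp, hφ]
  have hV : ∀ (V : EtOver X) (_ : V ⟶ E₀), IsAffine (sch V) →
      Function.Bijective (smap (EtOver.toScheme X) φ V) := fun V g hV =>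
    bijective_baseChange (hC g hV hE₀) (Chart.isQC M g hV hE₀) (smap (EtOver.toScheme X) φ E₀)
      (smap (EtOver.toScheme X) φ V) (fun m => smap_res φ g m) hb
  have hr : ∀ E : EtOver X, Set.range (Points.ofPt E.obj.hom) ⊆
      Set.range (Points.ofPt E₀.obj.hom) := fun E x _ =>
    K609.Points.surjective_ofPt_of_repWith_surjective hs x
  have hiso : IsIso φ := isIso_of_affine (T := EtOver.toScheme X) φ fun E _ =>
    ⟨Stalk.injective_of_range φ (hr E) fun V g h => (hV V g h).1,
      Stalk.surjective_of_range φ (hr E) hV⟩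
  exact ⟨IsColimit.ofPointIso hc (t := Cocone.mk M ι)⟩

end colim

end K644.FiltSec
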