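import Groth.Agent.AlgSp.K644.Site
import Mathlib.RingTheory.Finiteness.Descent
import Mathlib.RingTheory.Flat.FaithfullyFlat.Descent
import Mathlib.Algebra.Module.FinitePresentation

/-!
# Finiteness and base change along ring homomorphisms, in the language of `IsBC`
-/

set_option autoImplicit false

universe u

open TensorProduct

namespace K644.FinAlg

open Groth.Agent.Etbase.FFExact K644.Site

/-- Finite presentation of modules descends along faithfully flat ring maps. -/
theorem finitePresentation_of_tensorProduct (A B N : Type*) [CommRing A] [CommRing B]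
    [Algebra A B] [AddCommGroup N] [Module A N] [Module.FaithfullyFlat A B]
    [h : Module.FinitePresentation B (B ⊗[A] N)] : Module.FinitePresentation A N := by
  have : Module.Finite A N := Module.Finite.of_finite_tensorProduct_of_faithfullyFlat B
  obtain ⟨n, f, hf⟩ := Module.Finite.exists_fin' A N
  rw [← Module.FinitePresentation.fg_ker_iff f hf]
  have hB : Function.Surjective (f.baseChange B) := LinearMap.lTensor_surjective B hf
  have h1 : (LinearMap.ker (f.baseChange B)).FG := Module.FinitePresentation.fg_ker _ hB
  let i : B ⊗[A] (LinearMap.ker f) →ₗ[B] B ⊗[A] (Fin n → A) := (LinearMap.ker f).subtype.baseChange B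
  have hi : Function.Injective i :=
    Module.Flat.lTensor_preserves_injective_linearMap _ (Submodule.injective_subtype _)
  have hex : Function.Exact i (f.baseChange B) := lTensor_exact B f.exact_subtype_ker_map hf
  have hr : LinearMap.range i = LinearMap.ker (f.baseChange B) := by
    ext x
    rw [LinearMap.mem_ker, LinearMap.mem_range]
    exact (hex x).symm
  have h2 : Module.Finite B (LinearMap.range i) := by
    rw [hr]
    exact Module.Finite.iff_fg.mpr h1
  have h3 : Module.Finite B (B ⊗[A] (LinearMap.ker f)) :=
    Module.Finite.equiv (LinearEquiv.ofInjective i hi).symm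
  exact Module.Finite.iff_fg.mp (Module.Finite.of_finite_tensorProduct_of_faithfullyFlat B)

section

variable {A B : Type*} [CommRing A] [CommRing B] {φ : A →+* B} {M M' : Type*} [AddCommGroup M]
  [AddCommGroup M'] [Module A M] [Module B M'] {ψ : M →+ M'}

theorem finite_of_bc (h : IsBC φ ψ) [Module.Finite A M] : Module.Finite B M' := by
  obtain ⟨h1, h2⟩ := h
  let _ := φ.toAlgebra
  let _ : Module A M' := Module.compHom M' φ
  have : IsScalarTower A B M' := ⟨fun a b m => by
    change (φ a * b) • m = φ a • b • m
    rw [mul_smul]⟩
  exact Module.Finite.equiv h2.equiv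

theorem fp_of_bc (h : IsBC φ ψ) [Module.FinitePresentation A M] :
    Module.FinitePresentation B M' := by
  obtain ⟨h1, h2⟩ := h
  let _ := φ.toAlgebra
  let _ : Module A M' := Module.compHom M' φ
  have : IsScalarTower A B M' := ⟨fun a b m => by
    change (φ a * b) • m = φ a • b • m
    rw [mul_smul]⟩
  exact Module.FinitePresentation.of_equiv h2.equiv

theorem finite_of_ff (hff : φ.FaithfullyFlat) (h : IsBC φ ψ) [Module.Finite B M'] :
    Module.Finite A M := by
  obtain ⟨h1, h2⟩ := h
  let _ := φ.toAlgebra
  have : Module.FaithfullyFlat A B := hff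
  let _ : Module A M' := Module.compHom M' φ
  have : IsScalarTower A B M' := ⟨fun a b m => by
    change (φ a * b) • m = φ a • b • m
    rw [mul_smul]⟩
  have : Module.Finite B (B ⊗[A] M) := Module.Finite.equiv h2.equiv.symm
  exact Module.Finite.of_finite_tensorProduct_of_faithfullyFlat B

theorem fp_of_ff (hff : φ.FaithfullyFlat) (h : IsBC φ ψ) [Module.FinitePresentation B M'] :
    Module.FinitePresentation A M := by
  obtain ⟨h1, h2⟩ := h
  let _ := φ.toAlgebra
  have : Module.FaithfullyFlat A B := hff
  let _ : Module A M' := Module.compHom M' φ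
  have : IsScalarTower A B M' := ⟨fun a b m => by
    change (φ a * b) • m = φ a • b • m
    rw [mul_smul]⟩
  have : Module.FinitePresentation B (B ⊗[A] M) := Module.FinitePresentation.of_equiv h2.equiv.symm
  exact finitePresentation_of_tensorProduct A B M

end

section decomp

variable {B : Type*} [CommRing B] {ι : Type*} [Finite ι] {C : ι → Type*}
  [∀ i, CommRing (C i)] {φ : ∀ i, B →+* C i}
  (hφ : Function.Bijective (fun (b : B) (i : ι) => φ i b)) {N : Type*} [AddCommGroup N]
  [Module B N] {N' : ι → Type*} [∀ i, AddCommGroup (N' i)] [∀ i, Module (C i) (N' i)]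
  {ψ : ∀ i, N →+ N' i} (h : ∀ i, IsBC (φ i) (ψ i))

omit [Finite ι] in
include hφ in
theorem surjective_of_decomp (i : ι) : Function.Surjective (φ i) := by
  classical
  intro c
  obtain ⟨b, hb⟩ := hφ.2 (fun j => if h : j = i then h ▸ c else 0)
  refine ⟨b, ?_⟩
  have := congrFun hb i
  simpa using this

include hφ h in
theorem finite_of_decomp [∀ i, Module.Finite (C i) (N' i)] : Module.Finite B N := by
  let _ : ∀ i, Algebra B (C i) := fun i => (φ i).toAlgebra
  let _ : ∀ i, Module B (N' i) := fun i => Module.compHom (N' i) (φ i)
  have : ∀ i, IsScalarTower B (C i) (N' i) := fun i => ⟨fun a b m => by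
    change (φ i a * b) • m = φ i a • b • m
    rw [mul_smul]⟩
  have h1 : ∀ i, Module.Finite B (C i) := fun i =>
    Module.Finite.of_surjective (Algebra.linearMap B (C i)) (surjective_of_decomp hφ i)
  have h2 : ∀ i, Module.Finite B (N' i) := fun i => Module.Finite.trans (C i) (N' i)
  let l : N →ₗ[B] ∀ i, N' i :=
    { toFun := fun n i => ψ i n
      map_add' := fun a b => funext fun i => map_add _ _ _
      map_smul' := fun b n => funext fun i => (h i).choose b n }
  exact Module.Finite.equiv (LinearEquiv.ofBijective l (pi_bijective φ hφ ψ h)).symm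

include hφ h in
theorem fp_of_decomp [∀ i, Module.FinitePresentation (C i) (N' i)] :
    Module.FinitePresentation B N := by
  classical
  let _ : ∀ i, Algebra B (C i) := fun i => (φ i).toAlgebra
  let _ : ∀ i, Module B (N' i) := fun i => Module.compHom (N' i) (φ i)
  have : ∀ i, IsScalarTower B (C i) (N' i) := fun i => ⟨fun a b m => by
    change (φ i a * b) • m = φ i a • b • m
    rw [mul_smul]⟩
  let lB : B →ₗ[B] ∀ i, C i :=
    { toFun := fun n i => φ i n
      map_add' := fun a b => funext fun i => map_add _ _ _
      map_smul' := fun b n => funext fun i => (map_mul (φ i) b n) }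
  let eB := LinearEquiv.ofBijective lB hφ
  have hproj : Module.Projective B (∀ i, C i) := Module.Projective.of_equiv eB
  have h0 : ∀ i, Module.Projective B (C i) := fun i =>
    Module.Projective.of_split (LinearMap.single B C i) (LinearMap.proj i)
      (LinearMap.ext fun x => by simp)
  have h1 : ∀ i, Module.Finite B (C i) := fun i =>
    Module.Finite.of_surjective (Algebra.linearMap B (C i)) (surjective_of_decomp hφ i)
  have h1' : ∀ i, Module.FinitePresentation B (C i) := fun i =>
    Module.finitePresentation_of_projective B (C i)
  have h2 : ∀ i, Module.FinitePresentation B (N' i) := fun i =>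
    Module.FinitePresentation.trans B (N' i) (C i)
  let l : N →ₗ[B] ∀ i, N' i :=
    { toFun := fun n i => ψ i n
      map_add' := fun a b => funext fun i => map_add _ _ _
      map_smul' := fun b n => funext fun i => (h i).choose b n }
  have hpi : Module.FinitePresentation B (∀ i, N' i) := inferInstance
  exact Module.FinitePresentation.of_equiv
    (LinearEquiv.ofBijective l (pi_bijective φ hφ ψ h)).symm

end decomp

end K644.FinAlg
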