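import Groth.Agent.AlgSp.K644.FpSys

/-!
# Quasi-coherent modules as filtered colimits of modules of finite presentation: the colimit
-/

set_option autoImplicit false
set_option linter.unusedSectionVars false

universe u

open CategoryTheory CategoryTheory.Limits AlgebraicGeometry Opposite

namespace K644.FpSys

open AlgSp K644.Site K644.Psh K644.Exact K644.EtSite K644.QCoh K644.Chart K644.Colim K644.Alg
  Groth.Agent.Etbase.FFExact K606.Part K606.UnionMod K606.Ext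

variable {S : Scheme.{u}} [QuasiSeparatedSpace ↥S] {X : Space S} (hqc : IsQuasiCompactSp X.obj)
  (hqs : IsQuasiSeparatedSp X.obj) {M Q : ModEt X.obj} [M.IsQuasicoherent] [Q.IsQuasicoherent]
  {q : Q ⟶ M} (Y : Sys q) (E₀ : EtOver X.obj) (hE₀ : IsAffine (sch E₀))
  (hs : RepWith @Surjective E₀.obj.hom)

theorem lin_eq {A B : ModEt X.obj} (φ : A ⟶ B) (E : EtOver X.obj) (x : sec A E) :
    K606.UnionMod.lin φ E x = smap (EtOver.toScheme X.obj) φ E x := rfl

include hqc hqs in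
/-- Sections of the kernel lie in finitely generated families. -/
theorem exists_relation {P Q M : ModEt X.obj} [P.IsQuasicoherent] [M.IsQuasicoherent]
    (r : P ⟶ Q) (q : Q ⟶ M) (E : EtOver X.obj) (hE : IsAffine (sch E)) (w : sec P E)
    (hw : smap (EtOver.toScheme X.obj) (r ≫ q) E w = 0) :
    ∃ N : PSub Q Set.univ, N.FG ∧
      (∀ (E : EtOver X.obj) (hE : IsAffine E.obj.left.left), ∀ s ∈ N.sub E hE,
        K606.UnionMod.lin q E s = 0) ∧
      (∀ (E : EtOver X.obj) (hE : IsAffine E.obj.left.left),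
        N.sub E hE ≤ LinearMap.range (K606.UnionMod.lin r E)) ∧
      K606.UnionMod.lin r E w ∈ N.sub E hE := by
  let Kf := kernel (r ≫ q)
  let κ : Kf ⟶ P := kernel.ι _
  have hK : IsQC (EtOver.toScheme X.obj) Kf.val :=
    isQC_kernel (Chart.isQC P) (Chart.isQC M) κ _ (kernel.condition _) (kernelIsKernel _)
  have hKq : Kf.IsQuasicoherent := isQuasicoherent_of_isQC hK
  obtain ⟨w', hw'⟩ := ((exact_kernel (T := EtOver.toScheme X.obj) κ _ (kernel.condition _)
    (kernelIsKernel _) E).2 w).1 hw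
  obtain ⟨N, hN, hw''⟩ := K606.QCMain.exists_mem hqc hqs (K606.QcSub.bcaff Kf) E hE w'
  obtain ⟨F', ι', hι', hF', hr, hft⟩ := exists_module N
  have := hft hN
  have h0 : (ι' ≫ κ ≫ r) ≫ q = 0 := by
    rw [Category.assoc, Category.assoc, kernel.condition, comp_zero]
  refine ⟨ofHom (ι' ≫ κ ≫ r) (K606.QcSub.bcaff F'), ofHom_FG _ _, ?_, ?_, ?_⟩
  · intro E hE s hs
    obtain ⟨x, rfl⟩ := hs
    rw [← lin_comp, h0]
    rfl
  · intro E hE s hs
    obtain ⟨x, rfl⟩ := hs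
    refine ⟨K606.UnionMod.lin (ι' ≫ κ) E x, ?_⟩
    rw [← lin_comp, Category.assoc]
  · rw [← hr E hE] at hw''
    obtain ⟨y, hy⟩ := hw''
    refine ⟨y, ?_⟩
    rw [lin_comp, lin_comp, hy]
    exact congrArg (K606.UnionMod.lin r E) hw'

omit [QuasiSeparatedSpace ↥S] in
/-- A section whose image lies in the relations goes to zero in the quotient. -/
theorem aux {F' R R' Q C : ModEt X.obj} (r : R ⟶ Q) (r' : R' ⟶ Q) [Mono r'] (k' : F' ⟶ R')
    (i' : F' ⟶ Q) (hk : k' ≫ r' = i') (ρ : R ⟶ R') (hρ : ρ ≫ r' = r) (p : R' ⟶ C)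
    (hp : k' ≫ p = 0) (E : EtOver X.obj) (w : sec R E)
    (hw : K606.UnionMod.lin r E w ∈ LinearMap.range (K606.UnionMod.lin i' E)) :
    smap (EtOver.toScheme X.obj) (ρ ≫ p) E w = 0 := by
  obtain ⟨y, hy⟩ := hw
  have h2 : K606.UnionMod.lin ρ E w = K606.UnionMod.lin k' E y := by
    apply injective_lin r' E
    rw [← lin_comp, ← lin_comp, hk, hρ]
    exact hy.symm
  have h3 : smap (EtOver.toScheme X.obj) p E (smap (EtOver.toScheme X.obj) k' E y) = 0 := by
    rw [← smap_comp, hp, smap_zero]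
  rw [← h3]
  exact congrArg _ h2

omit [QuasiSeparatedSpace ↥S] in
theorem aux2 {R C C' : ModEt X.obj} (p : R ⟶ C) (m : C ⟶ C') (n : R ⟶ C') (h : p ≫ m = n)
    (E : EtOver X.obj) (w : sec R E) (hw : smap (EtOver.toScheme X.obj) n E w = 0) :
    smap (EtOver.toScheme X.obj) m E (smap (EtOver.toScheme X.obj) p E w) = 0 := by
  rw [← smap_comp, h, hw]

omit [QuasiSeparatedSpace ↥S] [M.IsQuasicoherent]  in
theorem exists_zero3 (E : EtOver X.obj) (hE : IsAffine (sch E)) (j : Idx Y)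
    (w : sec (Y.R j.1.1) E) (N : PSub Q Set.univ)
    (h4 : K606.UnionMod.lin (Y.r j.1.1) E w ∈ N.sub E hE) (j' : Idx Y) (hle : N ≤ j'.1.2) :
    K606.UnionMod.lin (Y.r j.1.1) E w ∈ LinearMap.range (K606.UnionMod.lin (i j') E) := by
  have h6 := hle E hE h4
  rw [← range_i j' E hE] at h6
  exact h6

omit [QuasiSeparatedSpace ↥S] [M.IsQuasicoherent]  in
theorem exists_zero4 (E : EtOver X.obj) (hE : IsAffine (sch E)) (j : Idx Y)
    (w : sec (Y.R j.1.1) E) (hR : ∃ N : PSub Q Set.univ, N.FG ∧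
      (∀ (E : EtOver X.obj) (hE : IsAffine E.obj.left.left), ∀ s ∈ N.sub E hE,
        K606.UnionMod.lin q E s = 0) ∧
      (∀ (E : EtOver X.obj) (hE : IsAffine E.obj.left.left),
        N.sub E hE ≤ LinearMap.range (K606.UnionMod.lin (Y.r j.1.1) E)) ∧
      K606.UnionMod.lin (Y.r j.1.1) E w ∈ N.sub E hE) : ∃ (j' : Idx Y) (_ : j ≤ j'),
    K606.UnionMod.lin (Y.r j.1.1) E w ∈ LinearMap.range (K606.UnionMod.lin (i j') E) := by
  obtain ⟨N, hN, h1, h2, h4⟩ := hR
  obtain ⟨j', hj', ej', hle⟩ := exists_sup j j.1.1 le_rfl N hN h1 h2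
  exact ⟨j', hj', exists_zero3 Y E hE j w N h4 j' hle⟩

omit [QuasiSeparatedSpace ↥S] [M.IsQuasicoherent]  in
theorem exists_zero5 (E : EtOver X.obj) (j : Idx Y)
    (w : sec (Y.R j.1.1) E) (hR : ∃ (j' : Idx Y) (_ : j ≤ j'),
      K606.UnionMod.lin (Y.r j.1.1) E w ∈ LinearMap.range (K606.UnionMod.lin (i j') E)) :
    ∃ (j' : Idx Y) (f : j ⟶ j'),
      smap (EtOver.toScheme X.obj) ((D Y).map f) E (smap (EtOver.toScheme X.obj) (pr j) E w) = 0 := by
  obtain ⟨j', hj', h6⟩ := hR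
  exact ⟨j', homOfLE hj', aux2 (pr j) ((D Y).map (homOfLE hj')) _ (pr_map (homOfLE hj')) E w
    (aux (Y.r j.1.1) (Y.r j'.1.1) (k j') (i j') (k_r j') (ρ hj') (ρ_r hj') (pr j') (k_pr j') E w h6)⟩

include hqc hqs in
/-- Sections of a stage going to zero in `M` go to zero in the system. -/
theorem exists_zero (E : EtOver X.obj) (hE : IsAffine (sch E)) (j : Idx Y)
    (w : sec (Y.R j.1.1) E)
    (hw : smap (EtOver.toScheme X.obj) (Y.r j.1.1 ≫ q) E w = 0) :
    ∃ (j' : Idx Y) (f : j ⟶ j'),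
      smap (EtOver.toScheme X.obj) ((D Y).map f) E (smap (EtOver.toScheme X.obj) (pr j) E w) = 0 :=
  exists_zero5 Y E j w (exists_zero4 Y E hE j w (exists_relation hqc hqs (Y.r j.1.1) q E hE w hw))

include hqc hqs hE₀ hs in
/-- The system of quotients has colimit `M`. -/
theorem nonempty_isColimit
    (h1 : ∀ s : sec M E₀, ∃ (t : Y.T) (x : sec (Y.R t) E₀),
      smap (EtOver.toScheme X.obj) (Y.r t ≫ q) E₀ x = s) :
    Nonempty (IsColimit (Cocone.mk M (ι Y))) := by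
  refine FiltSec.isColimit_of_sections (ι Y) (fun j => inferInstance) E₀ hE₀ hs ?_ ?_
  · intro s
    obtain ⟨t, x, hx⟩ := h1 s
    refine ⟨idx₀ Y t, smap (EtOver.toScheme X.obj) (pr (idx₀ Y t)) E₀ x, ?_⟩
    rw [← smap_comp]
    exact (congrArg (fun z => smap (EtOver.toScheme X.obj) z E₀ x) (pr_des (idx₀ Y t))).trans hx
  · intro j t ht
    obtain ⟨w, rfl⟩ := surjective_of_epi (Chart.isQC (Y.R j.1.1)) (Chart.isQC ((D Y).obj j)) (pr j)
      E₀ hE₀ t
    refine exists_zero hqc hqs Y E₀ hE₀ j w ?_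
    rw [← smap_comp] at ht
    exact (congrArg (fun z => smap (EtOver.toScheme X.obj) z E₀ w) (pr_des j)).symm.trans ht

end K644.FpSys
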