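import Groth.Agent.AlgSp.K644.FpColim
import Mathlib.RingTheory.Finiteness.Basic

/-!
# Quasi-coherent modules generated by modules of finite presentation are filtered colimits of
modules of finite presentation
-/

set_option autoImplicit false
set_option linter.unusedSectionVars false

universe u

open CategoryTheory CategoryTheory.Limits AlgebraicGeometry Opposite

namespace K644.FpGen

open AlgSp K644.Site K644.Psh K644.Exact K644.EtSite K644.QCoh K644.Chart K644.Colim K644.Alg
  Groth.Agent.Etbase.FFExact K606.Part K606.UnionMod K606.Ext K644.FpSys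

section biprod

variable {S : Scheme.{u}} {X : Sp S}

instance : HasFiniteBiproducts (ModEt X) := Abelian.hasFiniteBiproducts

theorem smap_add {M N : ModEt X} (φ ψ : M ⟶ N) (E : EtOver X) (x : sec M E) :
    smap (EtOver.toScheme X) (φ + ψ) E x =
      smap (EtOver.toScheme X) φ E x + smap (EtOver.toScheme X) ψ E x := rfl

theorem smap_sum {M N : ModEt X} {κ : Type*} (t : Finset κ) (φ : κ → (M ⟶ N)) (E : EtOver X)
    (x : sec M E) : smap (EtOver.toScheme X) (∑ s ∈ t, φ s) E x =
      ∑ s ∈ t, smap (EtOver.toScheme X) (φ s) E x := by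
  classical
  induction t using Finset.induction_on with
  | empty => rfl
  | insert a t ha ih => rw [Finset.sum_insert ha, Finset.sum_insert ha, smap_add, ih]

variable {κ : Type (u + 1)} [Fintype κ] [DecidableEq κ] (P : κ → ModEt X)

theorem total : ∑ s, biproduct.π P s ≫ biproduct.ι P s = 𝟙 (⨁ P) := by
  refine biproduct.hom_ext' _ _ fun s => ?_
  rw [Preadditive.comp_sum, Finset.sum_eq_single s, ← Category.assoc, biproduct.ι_π_self,
    Category.id_comp, Category.comp_id]
  · intro s' _ hs
    rw [← Category.assoc, biproduct.ι_π_ne _ hs.symm, zero_comp]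
  · intro h
    exact absurd (Finset.mem_univ s) h

/-- Sections of a finite direct sum. -/
noncomputable def secBiproduct (E : EtOver X) :
    sec (⨁ P) E ≃ₗ[Γ((EtOver.toScheme X).obj E, ⊤)] (∀ s, sec (P s) E) where
  toFun x s := smap (EtOver.toScheme X) (biproduct.π P s) E x
  map_add' x y := funext fun s => map_add _ x y
  map_smul' r x := funext fun s => map_smul (smap (EtOver.toScheme X) (biproduct.π P s) E) r x
  invFun y := ∑ s, smap (EtOver.toScheme X) (biproduct.ι P s) E (y s)
  left_inv x := by
    have h : (∑ s, smap (EtOver.toScheme X) (biproduct.π P s ≫ biproduct.ι P s) E x) = x := by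
      rw [← smap_sum]
      exact (congrArg (fun z => smap (EtOver.toScheme X) z E x) (total P)).trans
        (smap_id E x)
    exact h
  right_inv y := by
    funext s
    change smap (EtOver.toScheme X) (biproduct.π P s) E
      (∑ s', smap (EtOver.toScheme X) (biproduct.ι P s') E (y s')) = y s
    rw [map_sum, Finset.sum_eq_single s]
    · rw [← smap_comp, biproduct.ι_π_self]
      exact smap_id E (y s)
    · intro s' _ hs
      rw [← smap_comp, biproduct.ι_π_ne _ hs, smap_zero]
    · intro h
      exact absurd (Finset.mem_univ s) h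

theorem isQC_biproduct (h : ∀ s, (P s).IsQuasicoherent) :
    IsQC (EtOver.toScheme X) (⨁ P).val := by
  refine isQC_of_isColimit (biproduct.isColimit P) ?_
  rintro ⟨s⟩
  have := h s
  exact Chart.isQC (P s)

theorem fp_biproduct (h : ∀ s, (P s).IsFinitePresentation) : (⨁ P).IsFinitePresentation := by
  rw [ChartFin.isFinitePresentation_iff]
  refine ⟨(isCart_iff_isQC _).2 (isQC_biproduct P fun s => by
    have := h s
    infer_instance), fun E hE => ?_⟩
  have h1 : ∀ s, Module.FinitePresentation Γ((EtOver.toScheme X).obj E, ⊤) (sec (P s) E) :=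
    fun s => by
      have := h s
      exact ChartFin.fp_sec (P s) hE
  have h2 : Module.FinitePresentation Γ((EtOver.toScheme X).obj E, ⊤) (∀ s, sec (P s) E) :=
    inferInstance
  have h3 : Module.FinitePresentation Γ((EtOver.toScheme X).obj E, ⊤) (sec (⨁ P) E) :=
    Module.FinitePresentation.of_equiv (secBiproduct P E).symm
  exact h3

end biprod

section sys

variable {S : Scheme.{u}} {X : Sp S} {M : ModEt X} {A : Type (u + 1)} (P : A → ModEt X)
  (a : ∀ s, P s ⟶ M)

open Classical in
/-- The stage of a finite set. -/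
noncomputable abbrev R (t : Finset A) : ModEt X := ⨁ (fun s : t => P s)

open Classical in
/-- Inclusion of a stage into the direct sum. -/
noncomputable def r (t : Finset A) : R P t ⟶ ∐ P := biproduct.desc fun s => Sigma.ι P s

open Classical in
/-- Retraction. -/
noncomputable def ret (t : Finset A) : ∐ P ⟶ R P t :=
  Sigma.desc fun s => if h : s ∈ t then biproduct.ι (fun s : t => P s) ⟨s, h⟩ else 0

open Classical in
theorem r_ret (t : Finset A) : r P t ≫ ret P t = 𝟙 _ := by
  refine biproduct.hom_ext' _ _ fun s => ?_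
  rw [r, ← Category.assoc, biproduct.ι_desc, ret, Sigma.ι_desc, dif_pos s.2]
  exact (Category.comp_id _).symm

open Classical in
theorem exists_le {t t' : Finset A} (h : t ≤ t') : ∃ ρ : R P t ⟶ R P t', ρ ≫ r P t' = r P t := by
  refine ⟨biproduct.desc fun s => biproduct.ι (fun s : t' => P s) ⟨s, h s.2⟩, ?_⟩
  refine biproduct.hom_ext' _ _ fun s => ?_
  rw [← Category.assoc, biproduct.ι_desc, r, r, biproduct.ι_desc, biproduct.ι_desc]

open Classical in
theorem isQC_coproduct (h : ∀ s, (P s).IsQuasicoherent) :
    IsQC (EtOver.toScheme X) (∐ P).val := by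
  refine isQC_of_isColimit (coproductIsCoproduct P) ?_
  rintro ⟨s⟩
  have := h s
  exact Chart.isQC (P s)

open Classical in
/-- The system of finite direct sums. -/
noncomputable def sys (h : ∀ s, (P s).IsQuasicoherent) : Sys (Sigma.desc a) where
  T := Finset A
  R := R P
  qc t := isQuasicoherent_of_isQC (T := EtOver.toScheme X)
    (isQC_biproduct (fun s : t => P s) fun s => h s)
  r := r P
  mono t := by
    have : SplitMono (r P t) := ⟨ret P t, r_ret P t⟩
    exact this.mono
  le h := exists_le P h

theorem fp_sys (hq : ∀ s, (P s).IsQuasicoherent) (h : ∀ s, (P s).IsFinitePresentation)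
    (t : (sys P a hq).T) : ((sys P a hq).R t).IsFinitePresentation := by
  classical
  let t' : Finset A := t
  have h1 : (⨁ (fun s : t' => P s)).IsFinitePresentation :=
    fp_biproduct (fun s : t' => P s) fun s => h s
  exact h1

theorem ι_r (t : Finset A) (s : A) (hs : s ∈ t) :
    biproduct.ι (fun s : t => P s) ⟨s, hs⟩ ≫ r P t ≫ Sigma.desc a = a s := by
  rw [r, ← Category.assoc, biproduct.ι_desc, Sigma.ι_desc]

theorem hit (hq : ∀ s, (P s).IsQuasicoherent) (E : EtOver X) (s : A) (x : sec (P s) E) :
    ∃ (t : (sys P a hq).T) (y : sec ((sys P a hq).R t) E),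
      smap (EtOver.toScheme X) ((sys P a hq).r t ≫ Sigma.desc a) E y =
        smap (EtOver.toScheme X) (a s) E x := by
  classical
  let t : Finset A := {s}
  have hs : s ∈ t := Finset.mem_singleton_self s
  have h1 : smap (EtOver.toScheme X) (r P t ≫ Sigma.desc a) E
      (smap (EtOver.toScheme X) (biproduct.ι (fun s : t => P s) ⟨s, hs⟩) E x) =
        smap (EtOver.toScheme X) (a s) E x := by
    rw [← smap_comp, ι_r P a t s hs]
  exact ⟨t, _, h1⟩

end sys

section main

variable {S : Scheme.{u}} [QuasiSeparatedSpace ↥S] {X : Space S} (hqc : IsQuasiCompactSp X.obj)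
  (hqs : IsQuasiSeparatedSp X.obj) {M : ModEt X.obj} [M.IsQuasicoherent]
  (E₀ : EtOver X.obj) (hE₀ : IsAffine (sch E₀)) (hs : RepWith @Surjective E₀.obj.hom)

include hqc hqs hE₀ hs

open Classical in
/-- If the sections over a surjective affine chart come from modules of finite presentation, then
`M` is a filtered colimit of modules of finite presentation. -/
theorem exists_filtered
    (h : ∀ s : sec M E₀, ∃ (P : ModEt X.obj) (_ : P.IsFinitePresentation) (a : P ⟶ M)
      (t : sec P E₀), smap (EtOver.toScheme X.obj) a E₀ t = s) :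
    ∃ (J : Type (u + 1)) (_ : SmallCategory J) (_ : IsFiltered J) (D : J ⥤ ModEt X.obj)
      (ι : D ⟶ (Functor.const J).obj M),
      (∀ j, (D.obj j).IsFinitePresentation) ∧ Nonempty (IsColimit (Cocone.mk M ι)) := by
  choose P hP a t ht using h
  have hPq : ∀ s, (P s).IsQuasicoherent := fun s => by
    have := hP s
    infer_instance
  have hQ : (∐ P).IsQuasicoherent :=
    isQuasicoherent_of_isQC (T := EtOver.toScheme X.obj) (isQC_coproduct P hPq)
  let Y := sys P a hPq
  refine ⟨Idx Y, inferInstance, inferInstance, D Y, ι Y, isFinitePresentation (fp_sys P a hPq hP),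
    nonempty_isColimit hqc hqs Y E₀ hE₀ hs fun s => ?_⟩
  obtain ⟨T, y, hy⟩ := hit P a hPq E₀ s (t s)
  exact ⟨T, y, hy.trans (ht s)⟩

/-- Quotients of a module of finite presentation. -/
theorem exists_directed (P : ModEt X.obj) [P.IsFinitePresentation] (q : P ⟶ M) [Epi q] :
    ∃ (J : Type (u + 1)) (_ : PartialOrder J) (_ : IsDirected J (· ≤ ·)) (_ : Nonempty J)
      (D : J ⥤ ModEt X.obj) (ι : D ⟶ (Functor.const J).obj M),
      Nonempty (IsColimit (Cocone.mk M ι)) ∧ (∀ j, (D.obj j).IsFinitePresentation) ∧
        ∀ (j j' : J) (h : j ⟶ j'), Epi (D.map h) := by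
  let Y : Sys q :=
    { T := PUnit
      R := fun _ => P
      qc := fun _ => inferInstance
      r := fun _ => 𝟙 P
      mono := fun _ => inferInstance
      le := fun _ => ⟨𝟙 P, Category.comp_id _⟩ }
  refine ⟨Idx Y, inferInstance, inferInstance, inferInstance, D Y, ι Y,
    nonempty_isColimit hqc hqs Y E₀ hE₀ hs fun s => ?_, isFinitePresentation fun _ => ?_, ?_⟩
  · obtain ⟨x, hx⟩ := surjective_of_epi (Chart.isQC P) (Chart.isQC M) q E₀ hE₀ s
    refine ⟨PUnit.unit, x, ?_⟩
    have h1 : Y.r PUnit.unit ≫ q = q := Category.id_comp q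
    rw [h1]
    exact hx
  · exact inferInstanceAs (P.IsFinitePresentation)
  · intro j j' f
    have h1 : ρ (leOfHom f) = 𝟙 P := by
      have := ρ_r (leOfHom f)
      exact (Category.comp_id _).symm.trans this
    have h2 : pr j ≫ (D Y).map f = pr j' := by
      rw [pr_map, h1]
      exact Category.id_comp _
    have : Epi (pr j ≫ (D Y).map f) := by
      rw [h2]
      infer_instance
    exact epi_of_epi (pr j) ((D Y).map f)

end main

end K644.FpGen
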