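import Groth.Agent.AlgSp.K644.FiltSec
import Groth.Agent.AlgSp.K644.ChartFin
import Groth.Agent.AlgSp.K606.QCMain

/-!
# Quasi-coherent modules as filtered colimits of modules of finite presentation: the colimit
argument
-/

set_option autoImplicit false
set_option linter.unusedSectionVars false

universe u

open CategoryTheory CategoryTheory.Limits AlgebraicGeometry Opposite

namespace K644.FpSys

open AlgSp K644.Site K644.Psh K644.Exact K644.EtSite K644.QCoh K644.Chart K644.Colim K644.Alg
  Groth.Agent.Etbase.FFExact K606.Part K606.UnionMod K606.Ext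

variable {S : Scheme.{u}} {X : Sp S}

/-- Quotients of modules of finite presentation by submodules of finite type. -/
theorem fp_cokernel {F P : ModEt X} (k : F ⟶ P) [F.IsQuasicoherent] [F.IsFiniteType]
    [P.IsFinitePresentation] : (cokernel k).IsFinitePresentation := by
  have hC : IsQC (EtOver.toScheme X) (cokernel k).val :=
    isQC_cokernel (Chart.isQC F) (Chart.isQC P) k (cokernel.π k) (cokernel.condition k)
      (cokernelIsCokernel k)
  rw [ChartFin.isFinitePresentation_iff]
  refine ⟨(isCart_iff_isQC _).2 hC, fun E hE => ?_⟩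
  have h := exact_cokernel (T := EtOver.toScheme X) (Chart.isQC F) (Chart.isQC P) k (cokernel.π k)
    (cokernel.condition k) (cokernelIsCokernel k) E hE
  have hP : Module.FinitePresentation Γ((EtOver.toScheme X).obj E, ⊤) (sec P E) :=
    ChartFin.fp_sec P hE
  have hF : Module.Finite Γ((EtOver.toScheme X).obj E, ⊤) (sec F E) := ChartFin.finite_sec F hE
  have h1 : LinearMap.ker (smap (EtOver.toScheme X) (cokernel.π k) E) =
      LinearMap.range (smap (EtOver.toScheme X) k E) := by
    ext x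
    exact h.1 x
  have h2 : Module.FinitePresentation Γ((EtOver.toScheme X).obj E, ⊤) (sec (cokernel k) E) :=
    Module.finitePresentation_of_surjective (smap (EtOver.toScheme X) (cokernel.π k) E) h.2 (by
      rw [h1, LinearMap.range_eq_map]
      exact hF.fg_top.map _)
  exact h2

instance (Q : ModEt X) : PartialOrder (PSub Q Set.univ) where
  le N N' := ∀ (E : EtOver X) (hE : IsAffine E.obj.left.left), N.sub E hE ≤ N'.sub E hE
  le_refl _ _ _ := le_rfl
  le_trans _ _ _ h h' E hE := (h E hE).trans (h' E hE)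
  le_antisymm N N' h h' := by
    have : N.sub = N'.sub := by
      funext E hE
      exact le_antisymm (h E hE) (h' E hE)
    cases N
    cases N'
    congr

/-- A directed system of quasi-coherent submodules of `Q`. -/
structure Sys {M Q : ModEt X} (q : Q ⟶ M) where
  /-- the index set -/
  T : Type (u + 1)
  [po : PartialOrder T]
  [dir : IsDirectedOrder T]
  [ne : Nonempty T]
  /-- the modules -/
  R : T → ModEt X
  qc : ∀ t, (R t).IsQuasicoherent
  /-- the inclusions -/
  r : ∀ t, R t ⟶ Q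
  mono : ∀ t, Mono (r t)
  le : ∀ {t t' : T}, t ≤ t' → ∃ ρ : R t ⟶ R t', ρ ≫ r t' = r t

attribute [instance] Sys.po Sys.dir Sys.ne Sys.qc Sys.mono

variable {M Q : ModEt X} [Q.IsQuasicoherent] {q : Q ⟶ M} (Y : Sys q)

/-- Indices: a stage together with a finitely generated submodule of relations. -/
def Idx : Type (u + 1) :=
  {j : Y.T × PSub Q Set.univ // PSub.FG j.2 ∧
    (∀ (E : EtOver X) (hE : IsAffine E.obj.left.left), ∀ s ∈ j.2.sub E hE, K606.UnionMod.lin q E s = 0) ∧
    ∀ (E : EtOver X) (hE : IsAffine E.obj.left.left),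
      j.2.sub E hE ≤ LinearMap.range (K606.UnionMod.lin (Y.r j.1) E)}

instance : PartialOrder (Idx Y) :=
  inferInstanceAs (PartialOrder {j : Y.T × PSub Q Set.univ // _})

variable {Y}

theorem sub_le {j j' : Idx Y} (h : j ≤ j') : j.1.2 ≤ j'.1.2 := h.2

theorem fst_le {j j' : Idx Y} (h : j ≤ j') : j.1.1 ≤ j'.1.1 := h.1

/-- The module of relations. -/
noncomputable def F (j : Idx Y) : ModEt X := (exists_module j.1.2).choose

/-- Its inclusion into `Q`. -/
noncomputable def i (j : Idx Y) : F j ⟶ Q := (exists_module j.1.2).choose_spec.choose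

instance (j : Idx Y) : Mono (i j) := (exists_module j.1.2).choose_spec.choose_spec.1

instance (j : Idx Y) : (F j).IsQuasicoherent := (exists_module j.1.2).choose_spec.choose_spec.2.1

theorem range_i (j : Idx Y) (E : EtOver X) (hE : IsAffine E.obj.left.left) :
    LinearMap.range (K606.UnionMod.lin (i j) E) = j.1.2.sub E hE :=
  (exists_module j.1.2).choose_spec.choose_spec.2.2.1 E hE

instance (j : Idx Y) : (F j).IsFiniteType :=
  (exists_module j.1.2).choose_spec.choose_spec.2.2.2 j.2.1

theorem exists_k (j : Idx Y) : ∃ k : F j ⟶ Y.R j.1.1, k ≫ Y.r j.1.1 = i j :=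
  exists_factor (Y.r j.1.1) (i j) fun E hE s => by
    have h1 : K606.UnionMod.lin (i j) E s ∈ j.1.2.sub E hE := by
      rw [← range_i j E hE]
      exact ⟨s, rfl⟩
    exact j.2.2.2 E hE h1

/-- The inclusion of the relations into the stage. -/
noncomputable def k (j : Idx Y) : F j ⟶ Y.R j.1.1 := (exists_k j).choose

theorem k_r (j : Idx Y) : k j ≫ Y.r j.1.1 = i j := (exists_k j).choose_spec

/-- Transition maps of the stages. -/
noncomputable def ρ {j j' : Idx Y} (h : j ≤ j') : Y.R j.1.1 ⟶ Y.R j'.1.1 :=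
  (Y.le (fst_le h)).choose

theorem ρ_r {j j' : Idx Y} (h : j ≤ j') : ρ h ≫ Y.r j'.1.1 = Y.r j.1.1 :=
  (Y.le (fst_le h)).choose_spec

theorem exists_σ {j j' : Idx Y} (h : j ≤ j') : ∃ σ : F j ⟶ F j', σ ≫ i j' = i j :=
  exists_factor (i j') (i j) fun E hE s => by
    have h1 : K606.UnionMod.lin (i j) E s ∈ j.1.2.sub E hE := by
      rw [← range_i j E hE]
      exact ⟨s, rfl⟩
    have h2 := sub_le h E hE h1
    rw [← range_i j' E hE] at h2
    exact h2

/-- Transition maps of the relations. -/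
noncomputable def σ {j j' : Idx Y} (h : j ≤ j') : F j ⟶ F j' := (exists_σ h).choose

theorem σ_i {j j' : Idx Y} (h : j ≤ j') : σ h ≫ i j' = i j := (exists_σ h).choose_spec

theorem comm {j j' : Idx Y} (h : j ≤ j') : k j ≫ ρ h = σ h ≫ k j' := by
  rw [← cancel_mono (Y.r j'.1.1), Category.assoc, Category.assoc, ρ_r, k_r, k_r, σ_i]

variable (Y) in
/-- The system of quotients. -/
noncomputable def D : Idx Y ⥤ ModEt X where
  obj j := cokernel (k j)
  map {j j'} f := cokernel.map (k j) (k j') (σ (leOfHom f)) (ρ (leOfHom f)) (comm _)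
  map_id j := by
    have h : ρ (leOfHom (𝟙 j)) = 𝟙 _ := by
      rw [← cancel_mono (Y.r j.1.1), ρ_r, Category.id_comp]
    rw [← cancel_epi (cokernel.π (k j))]
    simp [h]
  map_comp {j j' j''} f g := by
    have h : ρ (leOfHom (f ≫ g)) = ρ (leOfHom f) ≫ ρ (leOfHom g) := by
      rw [← cancel_mono (Y.r j''.1.1), Category.assoc, ρ_r, ρ_r, ρ_r]
    rw [← cancel_epi (cokernel.π (k j))]
    simp [h]

/-- The projection from the stage. -/
noncomputable def pr (j : Idx Y) : Y.R j.1.1 ⟶ (D Y).obj j := cokernel.π (k j)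

instance (j : Idx Y) : Epi (pr j) := inferInstanceAs (Epi (cokernel.π (k j)))

theorem pr_map {j j' : Idx Y} (f : j ⟶ j') : pr j ≫ (D Y).map f = ρ (leOfHom f) ≫ pr j' :=
  cokernel.π_desc _ _ _

theorem k_zero (j : Idx Y) : k j ≫ Y.r j.1.1 ≫ q = 0 := by
  rw [← Category.assoc, k_r]
  refine K606.UnionMod.hom_ext_affine _ _ fun E hE s => ?_
  have h1 : K606.UnionMod.lin (i j) E s ∈ j.1.2.sub E hE := by
    rw [← range_i j E hE]
    exact ⟨s, rfl⟩
  rw [lin_comp, j.2.2.1 E hE _ h1]
  rfl

/-- The morphism to `M`. -/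
noncomputable def des (j : Idx Y) : (D Y).obj j ⟶ M :=
  cokernel.desc (k j) (Y.r j.1.1 ≫ q) (k_zero j)

theorem pr_des (j : Idx Y) : pr j ≫ des j = Y.r j.1.1 ≫ q := cokernel.π_desc _ _ _

theorem map_des {j j' : Idx Y} (f : j ⟶ j') : (D Y).map f ≫ des j' = des j := by
  rw [← cancel_epi (pr j), ← Category.assoc, pr_map, Category.assoc, pr_des, pr_des,
    ← Category.assoc, ρ_r]

variable (Y) in
/-- The cocone. -/
noncomputable def ι : D Y ⟶ (Functor.const (Idx Y)).obj M where
  app j := des j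
  naturality j j' f := (map_des f).trans (Category.comp_id _).symm

theorem isFinitePresentation (h : ∀ t, (Y.R t).IsFinitePresentation) (j : Idx Y) :
    ((D Y).obj j).IsFinitePresentation := by
  have := h j.1.1
  exact fp_cokernel (k j)

/-- A finitely generated family of relations. -/
theorem exists_sup (j : Idx Y) (t : Y.T) (ht : j.1.1 ≤ t) (N : PSub Q Set.univ) (hN : N.FG)
    (h1 : ∀ (E : EtOver X) (hE : IsAffine E.obj.left.left), ∀ s ∈ N.sub E hE,
      K606.UnionMod.lin q E s = 0)
    (h2 : ∀ (E : EtOver X) (hE : IsAffine E.obj.left.left),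
      N.sub E hE ≤ LinearMap.range (K606.UnionMod.lin (Y.r t) E)) :
    ∃ j' : Idx Y, j ≤ j' ∧ j'.1.1 = t ∧ N ≤ j'.1.2 := by
  let A : Bool → PSub Q Set.univ := fun b => if b then N else j.1.2
  have hA : ∀ b, (A b).FG := by
    rintro (_ | _)
    · exact j.2.1
    · exact hN
  obtain ⟨ρ, hρ⟩ := Y.le ht
  have hle : ∀ (E : EtOver X) (hE : IsAffine E.obj.left.left),
      j.1.2.sub E hE ≤ LinearMap.range (K606.UnionMod.lin (Y.r t) E) := by
    intro E hE s hs
    obtain ⟨x, rfl⟩ := j.2.2.2 E hE hs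
    refine ⟨K606.UnionMod.lin ρ E x, ?_⟩
    rw [← lin_comp, hρ]
  refine ⟨⟨(t, PSub.iSup A), PSub.iSup_FG A hA, ?_, ?_⟩, ⟨ht, fun E hE => PSub.le_iSup A false E hE⟩,
    rfl, fun E hE => PSub.le_iSup A true E hE⟩
  · intro E hE
    have : (⨆ b, (A b).sub E hE) ≤ LinearMap.ker (K606.UnionMod.lin q E) := by
      refine _root_.iSup_le ?_
      rintro (_ | _)
      · exact fun s hs => j.2.2.1 E hE s hs
      · exact fun s hs => h1 E hE s hs
    exact fun s hs => this hs
  · intro E hE
    refine _root_.iSup_le ?_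
    rintro (_ | _)
    · exact hle E hE
    · exact h2 E hE

theorem mem_zero_iff {T : Set (Points X)} {E : EtOver X} (hE : IsAffine E.obj.left.left)
    {s : Q.val.presheaf.obj (op E)} (hs : s ∈ (PSub.zero T : PSub Q T).sub E hE) : s = 0 := hs

variable (Y) in
/-- The index without relations. -/
noncomputable def idx₀ (t : Y.T) : Idx Y := ⟨(t, PSub.zero Set.univ), PSub.zero_FG _, fun E hE s hs => by
    rw [mem_zero_iff hE hs, map_zero], fun E hE s hs => by
    rw [mem_zero_iff hE hs]
    exact Submodule.zero_mem _⟩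

instance : Nonempty (Idx Y) := ⟨idx₀ Y (Classical.arbitrary Y.T)⟩

instance : IsDirectedOrder (Idx Y) where
  directed j j' := by
    obtain ⟨t, h1, h2⟩ := exists_ge_ge j.1.1 j'.1.1
    obtain ⟨ρ, hρ⟩ := Y.le h2
    obtain ⟨l, hl, hl', hl2⟩ := exists_sup j t h1 j'.1.2 j'.2.1 j'.2.2.1 (fun E hE s hs => by
      obtain ⟨x, rfl⟩ := j'.2.2.2 E hE hs
      refine ⟨K606.UnionMod.lin ρ E x, ?_⟩
      rw [← lin_comp, hρ])
    subst hl'
    exact ⟨l, hl, h2, hl2⟩

theorem k_pr (j : Idx Y) : k j ≫ pr j = 0 := cokernel.condition (k j)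

instance [∀ t, (Y.R t).IsQuasicoherent] (j : Idx Y) : ((D Y).obj j).IsQuasicoherent :=
  isQuasicoherent_of_isQC (T := EtOver.toScheme X)
    (isQC_cokernel (Chart.isQC (F j)) (Chart.isQC (Y.R j.1.1)) (k j) (cokernel.π (k j))
      (cokernel.condition (k j)) (cokernelIsCokernel (k j)))

end K644.FpSys
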