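import Groth.Agent.AlgSp.K644.Free

/-!
# Slices of a `QCSite`
-/

set_option autoImplicit false

universe w v d u w₁ w₂

open CategoryTheory CategoryTheory.Limits AlgebraicGeometry Opposite TensorProduct

namespace K644.Slice

open Groth.Agent.Etbase.FFExact K644.Site K644.Psh K644.Alg K644.Colim K644.Exact K644.Free

variable {D : Type d} [Category.{v} D] {J : GrothendieckTopology D} {T : D ⥤ Scheme.{u}}

/-- The scheme functor of a slice. -/
abbrev oT (T : D ⥤ Scheme.{u}) (E : D) : Over E ⥤ Scheme.{u} := Over.forget E ⋙ T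

theorem mem_over_iff {E : D} {U : Over E} (S : Sieve U) :
    S ∈ (J.over E) U ↔ Sieve.overEquiv U S ∈ J U.left := Iff.rfl

theorem affCov_over {E : D} {V U : Over E} (f : V ⟶ U) :
    AffCov (J.over E) (oT T E) f ↔ AffCov J T f.left := by
  have h : Sieve.overEquiv U (Sieve.generateSingleton f) = Sieve.generateSingleton f.left := by
    ext Z g
    rw [Sieve.overEquiv_iff]
    constructor
    · rintro ⟨k, hk⟩
      exact ⟨k.left, congrArg CommaMorphism.left hk⟩
    · rintro ⟨k, hk⟩
      refine ⟨Over.homMk k (by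
        have : g ≫ U.hom = k ≫ V.hom := by rw [← hk, Category.assoc, Over.w]
        exact this.symm), ?_⟩
      ext
      exact hk
  constructor
  · rintro ⟨h1, h2, h3, h4, h5⟩
    exact ⟨h1, h2, h3, h4, by rw [mem_over_iff, h] at h5; exact h5⟩
  · rintro ⟨h1, h2, h3, h4, h5⟩
    exact ⟨h1, h2, h3, h4, by rw [mem_over_iff, h]; exact h5⟩

theorem decomp_over {E : D} {V : Over E} {ι : Type} (Y : ι → Over E) (s : ∀ i, Y i ⟶ V) :
    Decomp (J.over E) (oT T E) Y s ↔ Decomp J T (fun i => (Y i).left) (fun i => (s i).left) := by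
  constructor
  · rintro ⟨h1, h2, h3, h4, h5⟩
    exact ⟨h1, h2, h3, h4, by rw [mem_over_iff, Sieve.overEquiv_ofArrows] at h5; exact h5⟩
  · rintro ⟨h1, h2, h3, h4, h5⟩
    exact ⟨h1, h2, h3, h4, by rw [mem_over_iff, Sieve.overEquiv_ofArrows]; exact h5⟩

instance qcSite_over [QCSite J T] (E : D) : QCSite (J.over E) (oT T E) where
  exists_cover U hU R hR := by
    obtain ⟨V, f, ι, Y, s, h1, h2, h3⟩ := QCSite.exists_cover (J := J) (T := T) U.left hU
      (Sieve.overEquiv U R) ((mem_over_iff R).1 hR)
    refine ⟨Over.mk (f ≫ U.hom), Over.homMk f, ι, fun i => Over.mk (s i ≫ f ≫ U.hom),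
      fun i => Over.homMk (s i), (affCov_over _).2 h1, (decomp_over _ _).2 h2, fun i => ?_⟩
    have := (Sieve.overEquiv_iff _ _).1 (h3 i)
    have e : (Over.homMk (s i) : Over.mk (s i ≫ f ≫ U.hom) ⟶ Over.mk (f ≫ U.hom)) ≫
        (Over.homMk f : Over.mk (f ≫ U.hom) ⟶ U) =
        (Over.isoMk (Iso.refl _) : Over.mk (s i ≫ f ≫ U.hom) ≅ Over.mk ((s i ≫ f) ≫ U.hom)).hom ≫
          (Over.homMk (s i ≫ f) : Over.mk ((s i ≫ f) ≫ U.hom) ⟶ U) := by
      ext
      simp
    rw [e]
    exact R.downward_closed this _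
  exists_aff U R hR := by
    refine (mem_over_iff R).2 (QCSite.exists_aff (T := T) U.left _ fun V g hV => ?_)
    rw [Sieve.overEquiv_iff]
    exact hR _ _ hV

instance flatMaps_over [FlatMaps T] (E : D) : FlatMaps (oT T E) where
  flat g := FlatMaps.flat (T := T) g.left

instance str_over {R : Sheaf J RingCat.{w}} [Str T R.obj] (E : D) :
    Str (oT T E) (R.over E).obj where
  ρ U := Str.ρ (T := T) (R := R.obj) U.left
  nat g a := Str.nat (T := T) (R := R.obj) g.left a

instance preservesPullbacks_oT [HasPullbacks D] [PreservesLimitsOfShape WalkingCospan T] (E : D) :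
    PreservesLimitsOfShape WalkingCospan (oT T E) := by
  unfold oT
  infer_instance

section

variable {R : Sheaf J RingCat.{w}}

theorem over_presheaf (M : SheafOfModules.{w} R) (E : D) :
    (M.over E).val.presheaf = (Over.forget E).op ⋙ M.val.presheaf := rfl

theorem sec_over (M : SheafOfModules.{w} R) (E : D) (U : Over E) :
    sec (M.over E) U = sec M U.left := rfl

theorem res_over (M : SheafOfModules.{w} R) (E : D) {V U : Over E} (g : V ⟶ U) (x : sec M U.left) :
    res (M.over E) g x = res M g.left x := rfl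

theorem smul_over [Str T R.obj] (M : SheafOfModules.{w} R) (E : D) (U : Over E)
    (a : Γ(T.obj U.left, ⊤)) (x : sec M U.left) :
    (show sec (M.over E) U from x) = (show sec (M.over E) U from x) ∧
      ((show Γ((oT T E).obj U, ⊤) from a) • (show sec (M.over E) U from x)) =
        (a • x : sec M U.left) := ⟨rfl, rfl⟩

end

end K644.Slice
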